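import Cfsg.Agent.Base
import Cfsg.Agent.Unitary.Basic

/-!
# Automorphisms of the unitary Heisenberg group compatible with the Levi action
-/

set_option autoImplicit false

namespace CL.AutU

open Module CL.Herm

variable {F W : Type*} [Field F] [AddCommGroup W] [Module F W] {σ : F →+* F} {q : ℕ}

/-- The action of a diagonal element times a quasi-reflection on the Heisenberg quotient. -/
def mv (B : W →ₛₗ[σ] W →ₗ[F] F) (v : W) (l : F) (w : W) : W :=
  σ l • (w + ((σ l / l - 1) * B v w) • v)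

variable {B : W →ₛₗ[σ] W →ₗ[F] F}

theorem mv_of_orth {v w : W} (l : F) (h : B v w = 0) : mv B v l w = σ l • w := by
  simp [mv, h]

theorem mv_smul_self {v : W} (hv : B v v = 1) (l a : F) :
    mv B v l (a • v) = (σ l * σ l / l * a) • v := by
  simp only [mv, map_smul, hv, smul_eq_mul]
  module

theorem exists_norm_one_cube (h : Conj σ q) (hq : q ≠ 2) : ∃ l : F, l * σ l = 1 ∧ l ^ 3 ≠ 1 := by
  classical
  by_contra hc
  push Not at hc
  have := h.finite
  have h1 := h.card_norm_one
  have h2 := h.two_le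
  have h3 : Nat.card {x : F // x * σ x = 1} ≤ (Polynomial.nthRoots 3 (1 : F)).toFinset.card := by
    rw [← Nat.card_eq_finsetCard]
    refine Nat.card_le_card_of_injective
      (fun x => (⟨x.1, ?_⟩ : (Polynomial.nthRoots 3 (1 : F)).toFinset)) ?_
    · rw [Multiset.mem_toFinset, Polynomial.mem_nthRoots (by norm_num)]
      exact hc x.1 x.2
    · intro x y hxy
      exact Subtype.ext (by simpa using hxy)
  have h4 := (Multiset.toFinset_card_le _).trans (Polynomial.card_nthRoots 3 (1 : F))
  omega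

theorem conj_comm (h : Conj σ q) (θ : F →+* F) (x : F) : σ (θ x) = θ (σ x) := by
  rw [h.apply, h.apply, map_pow]

variable (H : IsHerm q B)
include H

theorem norm_mv {v : W} (hv : B v v = 1) {l : F} (hl : l ≠ 0) (w : W) :
    B (mv B v l w) (mv B v l w) = l * σ l * B w w := by
  have hl' : σ l ≠ 0 := by simpa using hl
  simp only [mv, map_add, LinearMap.add_apply, LinearMap.map_smulₛₗ, LinearMap.smul_apply,
    smul_eq_mul, RingHom.id_apply, map_mul, map_sub, map_div₀, map_one, H.conj.invol, H.symm, hv]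
  field_simp
  ring

/-- The unit vectors span a non-degenerate subspace. -/
theorem span_unit_eq {S : Submodule F W} (hS : Nd B S) :
    Submodule.span F {v | v ∈ S ∧ B v v = 1} = S := by
  refine le_antisymm (Submodule.span_le.2 fun v hv => hv.1) fun x hx => ?_
  by_contra hx'
  have hS0 : S ≠ ⊥ := by
    rintro rfl
    rw [Submodule.mem_bot] at hx
    exact hx' (hx ▸ Submodule.zero_mem _)
  obtain ⟨u, hu, hu1⟩ := H.exists_unit hS hS0
  have key : ∀ a : F, B (x + a • u) (x + a • u) = 0 := by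
    intro a
    by_contra h0
    obtain ⟨b, hb⟩ := H.exists_smul_norm_eq h0 (c := 1) (map_one σ)
    have hb0 : b ≠ 0 := by rintro rfl; simp at hb
    have h1 : b • (x + a • u) ∈ Submodule.span F {v | v ∈ S ∧ B v v = 1} :=
      Submodule.subset_span ⟨S.smul_mem _ (S.add_mem hx (S.smul_mem _ hu)), hb⟩
    have h2 := Submodule.sub_mem _ (Submodule.smul_mem _ b⁻¹ h1)
      (Submodule.smul_mem _ a (Submodule.subset_span ⟨hu, hu1⟩))
    rw [inv_smul_smul₀ hb0, add_sub_cancel_right] at h2
    exact hx' h2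
  have h0 := key 0
  have h1 := key (-B u x)
  have h2 := key (1 - B u x)
  simp only [map_add, LinearMap.add_apply, LinearMap.map_smulₛₗ, LinearMap.smul_apply,
    smul_eq_mul, RingHom.id_apply, map_neg, map_sub, map_one, H.symm, hu1, zero_smul,
    add_zero] at h0 h1 h2
  exact one_ne_zero (α := F) (by linear_combination h2 - h1)

theorem span_unit_eq_top : Submodule.span F {v | B v v = 1} = ⊤ := by
  simpa using span_unit_eq H H.nd_top

variable [FiniteDimensional F W]

theorem exists_unit_orth (h2 : 2 ≤ finrank F W) {v : W} (hv : B v v = 1) :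
    ∃ v', B v' v' = 1 ∧ B v' v = 0 := by
  have hv0 : v ≠ 0 := by rintro rfl; simp at hv
  obtain ⟨e, -, he, he'⟩ := H.exists_unit_perp H.nd_top
    (nd_span_singleton (e := v) (by rw [hv]; exact one_ne_zero)) le_top
    (by rw [finrank_span_singleton hv0, finrank_top]; omega)
  exact ⟨e, he, H.eq_zero_symm (he' v (Submodule.mem_span_singleton_self v))⟩

/-- An additive map commuting with the Levi action is a scalar. -/
theorem commutant (h1 : 1 ≤ finrank F W) (hn : ¬ (finrank F W = 1 ∧ q = 2)) (κ : W →+ W)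
    (ha : ∀ v l, B v v = 1 → l ≠ 0 → ∀ w, κ (mv B v l w) = mv B v l (κ w))
    (hb : ∀ v v', B v v = 1 → B v' v' = 1 → ∃ (m : W →ₗ[F] W) (μ : F), μ ≠ 0 ∧ m v = μ • v' ∧
      ∀ w, κ (m w) = m (κ w)) : ∃ a : F, ∀ w, κ w = a • w := by
  obtain ⟨t, ht⟩ := H.conj.exists_ne
  have ht0 : t ≠ 0 := by rintro rfl; simp at ht
  have ht1 : t + 1 ≠ 0 := by
    intro h
    rw [eq_neg_of_add_eq_zero_left h] at ht
    simp at ht
  set γ := σ (t + 1) * σ (t + 1) / (t + 1) - σ t * σ t / t - 1 with hγ
  have hγ0 : γ ≠ 0 := by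
    have : γ = -((σ t - t) ^ 2) / (t * (t + 1)) := by
      rw [hγ, map_add, map_one]; field_simp; ring
    rw [this]
    exact div_ne_zero (neg_ne_zero.2 (pow_ne_zero _ (sub_ne_zero.2 ht))) (mul_ne_zero ht0 ht1)
  have hid : ∀ v w, mv B v (t + 1) w - mv B v t w - mv B v 1 w = (γ * B v w) • v := by
    intro v w
    simp only [mv, hγ, map_add, map_one]
    match_scalars <;> field_simp <;> ring
  have hkey : ∀ v, B v v = 1 → ∀ w, κ ((γ * B v w) • v) = (γ * B v (κ w)) • v := by
    intro v hv w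
    rw [← hid, ← hid, map_sub, map_sub, ha v _ hv ht1, ha v _ hv ht0, ha v _ hv one_ne_zero]
  have hline : ∀ v, B v v = 1 → ∀ a : F, ∃ b : F, κ (a • v) = b • v := by
    intro v hv a
    have := hkey v hv ((a / γ) • v)
    rw [(B v).map_smul, hv, smul_eq_mul, mul_one, mul_div_cancel₀ _ hγ0] at this
    exact ⟨_, this⟩
  have horth : ∀ v, B v v = 1 → ∀ w, B v w = 0 → B v (κ w) = 0 := by
    intro v hv w hw
    have := hkey v hv w
    rw [hw, mul_zero, zero_smul, map_zero, eq_comm, smul_eq_zero] at this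
    rcases this with h | h
    · exact (mul_eq_zero.1 h).resolve_left hγ0
    · rw [h] at hv; simp at hv
  have hlin1 : ∀ v, B v v = 1 → ∀ a : F, κ (a • v) = a • κ v := by
    intro v hv a
    by_cases hq : q = 2
    · obtain ⟨v', hv', hv'v⟩ := exists_unit_orth H (by omega) hv
      by_cases ha0 : a = 0
      · simp [ha0]
      have := ha v' (σ a) hv' (by simpa using ha0) v
      rwa [mv_of_orth _ hv'v, mv_of_orth _ (horth v' hv' v hv'v), H.conj.invol] at this
    · have hm : ∀ l b : F, l ≠ 0 → κ ((σ l * σ l / l * b) • v) = (σ l * σ l / l) • κ (b • v) := by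
        intro l b hl
        obtain ⟨b', hb'⟩ := hline v hv b
        rw [← mv_smul_self hv, ha v l hv hl, hb', mv_smul_self hv, smul_smul]
      have hfix : ∀ x : F, σ x = x → κ (x • v) = x • κ v := by
        intro x hx
        by_cases hx0 : x = 0
        · simp [hx0]
        have := hm x 1 hx0
        rwa [hx, mul_div_cancel_right₀ _ hx0, mul_one, one_smul] at this
      obtain ⟨d, hd, hd3⟩ := exists_norm_one_cube H.conj hq
      obtain ⟨l, hl0, hl⟩ := H.conj.exists_eq_mul_conj hd
      have hl0' : σ l ≠ 0 := by simpa using hl0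
      set μ := σ l * σ l / l with hμ
      have hμ' : μ - σ μ ≠ 0 := by
        intro h0
        apply hd3
        rw [hμ, map_div₀, map_mul, H.conj.invol] at h0
        field_simp at h0
        have h3 : l ^ 3 = d ^ 3 * σ l ^ 3 := by
          conv_lhs => rw [hl]
          ring
        apply mul_right_cancel₀ (pow_ne_zero 3 hl0')
        linear_combination -h3 - h0
      set y := (a - σ a) / (μ - σ μ) with hy
      have hyf : σ y = y := by
        rw [hy, map_div₀, map_sub, map_sub, H.conj.invol, H.conj.invol, ← neg_sub a, ← neg_sub μ,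
          neg_div_neg_eq]
      have hxf : σ (a - μ * y) = a - μ * y := by
        rw [map_sub, map_mul, hyf, hy]
        field_simp
        ring
      have : a • v = (a - μ * y) • v + (μ * y) • v := by module
      rw [this, map_add, hfix _ hxf, hm l y hl0, hfix y hyf]
      module
  have hlin : ∀ w, ∀ a : F, κ (a • w) = a • κ w := by
    intro w
    have hw : w ∈ Submodule.span F {v | B v v = 1} := span_unit_eq_top H ▸ Submodule.mem_top
    induction hw using Submodule.span_induction with
    | mem v hv => exact hlin1 v hv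
    | zero => simp
    | add x y _ _ hx hy => intro a; rw [smul_add, map_add, map_add, hx, hy, smul_add]
    | smul b x _ hx => intro a; rw [smul_smul, hx, hx, smul_smul]
  obtain ⟨v₀, -, hv₀⟩ := H.exists_unit H.nd_top (by
    intro h
    have := finrank_top F W
    rw [h, finrank_bot] at this
    omega)
  obtain ⟨a, ha₀⟩ := hline v₀ hv₀ 1
  rw [one_smul] at ha₀
  refine ⟨a, fun w => ?_⟩
  have hw : w ∈ Submodule.span F {v | B v v = 1} := span_unit_eq_top H ▸ Submodule.mem_top
  induction hw using Submodule.span_induction with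
  | mem v hv =>
    obtain ⟨m, μ, hμ, hm, hκ⟩ := hb v₀ v hv₀ hv
    have := hκ v₀
    rw [hm, hlin, ha₀, map_smul, hm, smul_comm a μ] at this
    exact smul_right_injective W hμ this
  | zero => simp
  | add x y _ _ hx hy => rw [map_add, hx, hy, smul_add]
  | smul b x _ hx => rw [hlin, hx, smul_comm]

/-- An additive functional invariant under the norm-one part of the Levi action vanishes. -/
theorem invariant_eq_zero (hn : ¬ (finrank F W = 1 ∧ q = 2)) (η : W →+ F)
    (ha : ∀ v l, B v v = 1 → l * σ l = 1 → ∀ w, η (mv B v l w) = η w) (w : W) : η w = 0 := by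
  have h1 : ∀ v, B v v = 1 → ∀ a : F, η (a • v) = 0 := by
    intro v hv a
    have key : ∀ μ : F, μ ≠ 1 → (∀ b : F, η ((μ * b) • v) = η (b • v)) → η (a • v) = 0 := by
      intro μ hμ h
      have hμ' : μ - 1 ≠ 0 := sub_ne_zero.2 hμ
      have : a • v = (μ * (a / (μ - 1))) • v - (a / (μ - 1)) • v := by
        rw [← sub_smul]; congr 1; field_simp
      rw [this, map_sub, h, sub_self]
    by_cases hq : q = 2
    · have hv0 : v ≠ 0 := by rintro rfl; simp at hv
      have : Nontrivial W := ⟨⟨v, 0, hv0⟩⟩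
      have hpos : 0 < finrank F W := Module.finrank_pos
      obtain ⟨v', hv', hv'v⟩ := exists_unit_orth H (by omega) hv
      obtain ⟨l, hl, hl1, -⟩ := H.conj.exists_norm_one_ne 1 1
      refine key (σ l) (fun h => hl1 (by rw [← H.conj.invol l, h, map_one])) fun b => ?_
      rw [← ha v' l hv' hl (b • v), mv_of_orth _ (by simp [hv'v]), smul_smul]
    · obtain ⟨l, hl, hl3⟩ := exists_norm_one_cube H.conj hq
      have hl0 : l ≠ 0 := left_ne_zero_of_mul_eq_one hl
      refine key (σ l * σ l / l) (fun h => hl3 ?_) fun b => ?_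
      · field_simp at h
        linear_combination (-l ^ 2) * h + (l * σ l + 1) * hl
      · rw [← mv_smul_self hv, ha v l hv hl]
  have hw : w ∈ Submodule.span F {v | B v v = 1} := span_unit_eq_top H ▸ Submodule.mem_top
  have : ∀ a : F, η (a • w) = 0 := by
    induction hw using Submodule.span_induction with
    | mem v hv => exact h1 v hv
    | zero => simp
    | add x y _ _ hx hy => intro a; rw [smul_add, map_add, hx, hy, add_zero]
    | smul b x _ hx => intro a; rw [smul_smul, hx]
  simpa using this 1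

/-- An automorphism `(w, c) ↦ (φ' w c, ψ w c)` of the Heisenberg group
`{(w, c) | c + σ c = B w w}` preserving the centre and normalising the Levi action comes from a
semilinear similitude. -/
theorem heis_aut (h1 : 1 ≤ finrank F W) (hn : ¬ (finrank F W = 1 ∧ q = 2))
    (φ' : W → F → W) (ψ : W → F → F)
    (hmul : ∀ w c w' c', c + σ c = B w w → c' + σ c' = B w' w' →
      φ' (w + w') (c + c' + B w w') = φ' w c + φ' w' c' ∧
      ψ (w + w') (c + c' + B w w') = ψ w c + ψ w' c' + B (φ' w c) (φ' w' c'))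
    (hT : ∀ w c, c + σ c = B w w → (φ' w c = 0 ↔ w = 0))
    (hLa : ∀ v l, B v v = 1 → l * σ l = 1 → ∃ N : F, ∀ w c, c + σ c = B w w →
      ψ (mv B v l w) c = N * ψ w c)
    (hLb : ∀ v l, B v v = 1 → l ≠ 0 → ∃ (m : W →ₗ[F] W) (N : F), ∀ w c, c + σ c = B w w →
      N * c + σ (N * c) = B (m w) (m w) ∧ φ' (m w) (N * c) = mv B v l (φ' w c))
    (hLc : ∀ v v', B v v = 1 → B v' v' = 1 → ∃ (m' : W →ₗ[F] W) (μ : F), μ ≠ 0 ∧ m' v = μ • v' ∧
      ∃ (m : W →ₗ[F] W) (N : F), ∀ w c, c + σ c = B w w →
        N * c + σ (N * c) = B (m w) (m w) ∧ φ' (m w) (N * c) = m' (φ' w c)) :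
    ∃ (θ : F ≃+* F) (ρ : F) (φ : W →+ W), ρ ≠ 0 ∧ σ ρ = ρ ∧ (∀ a w, φ (a • w) = θ a • φ w) ∧
      (∀ w w', B (φ w) (φ w') = ρ * θ (B w w')) ∧
      ∀ w c, c + σ c = B w w → φ' w c = φ w ∧ ψ w c = ρ * θ c := by
  have := H.conj.finite
  have := H.finite
  choose cw hcw using fun w : W => H.conj.exists_trace (H.conj_self w)
  have hskew : ∀ w c, c + σ c = B w w → (c - cw w) + σ (c - cw w) = B 0 0 := by
    intro w c hc
    rw [map_sub, map_zero]
    linear_combination hc - hcw w
  have hshift : ∀ w c, c + σ c = B w w →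
      φ' w c = φ' w (cw w) ∧ ψ w c = ψ w (cw w) + ψ 0 (c - cw w) := by
    intro w c hc
    have h3 := hmul w (cw w) 0 (c - cw w) (hcw w) (hskew w c hc)
    rw [(hT 0 _ (hskew w c hc)).2 rfl] at h3
    simpa using h3
  have hval : ∀ w c w' c', c + σ c = B w w → c' + σ c' = B w' w' →
      (c + c' + B w w') + σ (c + c' + B w w') = B (w + w') (w + w') := by
    intro w c w' c' hc hc'
    simp only [map_add, LinearMap.add_apply, H.symm]
    linear_combination hc + hc'
  let φ : W →+ W := AddMonoidHom.mk' (fun w => φ' w (cw w)) fun w w' => by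
    rw [← (hshift _ _ (hval _ _ _ _ (hcw w) (hcw w'))).1, (hmul _ _ _ _ (hcw w) (hcw w')).1]
  have hφ : ∀ w c, c + σ c = B w w → φ' w c = φ w := fun w c hc => (hshift w c hc).1
  have hinj : Function.Injective φ :=
    (injective_iff_map_eq_zero φ).2 fun w hw => (hT w _ (hcw w)).1 hw
  let φe : W ≃+ W := AddEquiv.ofBijective φ ⟨hinj, Finite.surjective_of_injective hinj⟩
  have hφe : ∀ w, φe w = φ w := fun _ => rfl
  have hscal : ∀ a : F, ∃ b : F, ∀ w, φ (a • w) = b • φ w := by
    intro a
    let κ : W →+ W := AddMonoidHom.mk' (fun w => φ (a • φe.symm w)) fun x y => by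
      rw [map_add, smul_add, map_add]
    have hκ : ∀ w, κ (φ w) = φ (a • w) := fun w => by
      change φ (a • φe.symm (φe w)) = _
      rw [AddEquiv.symm_apply_apply]
    obtain ⟨b, hb⟩ := commutant H h1 hn κ (fun v l hv hl w => by
      obtain ⟨w, rfl⟩ := φe.surjective w
      obtain ⟨m, N, hm⟩ := hLb v l hv hl
      have h3 : ∀ w, φ (m w) = mv B v l (φ w) := fun w => by
        rw [← hφ _ _ (hm w _ (hcw w)).1, (hm w _ (hcw w)).2]; rfl
      rw [hφe, ← h3, hκ, hκ, ← h3, m.map_smul]) (fun v v' hv hv' => by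
      obtain ⟨m', μ, hμ, hm', m, N, hm⟩ := hLc v v' hv hv'
      refine ⟨m', μ, hμ, hm', fun w => ?_⟩
      obtain ⟨w, rfl⟩ := φe.surjective w
      have h3 : ∀ w, φ (m w) = m' (φ w) := fun w => by
        rw [← hφ _ _ (hm w _ (hcw w)).1, (hm w _ (hcw w)).2]; rfl
      rw [hφe, ← h3, hκ, hκ, ← h3, m.map_smul])
    exact ⟨b, fun w => by rw [← hκ, hb]⟩
  choose θ₀ hθ₀ using hscal
  obtain ⟨v₀, -, hv₀⟩ := H.exists_unit H.nd_top (by
    intro h
    have := finrank_top F W
    rw [h, finrank_bot] at this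
    omega)
  have hv0 : φ v₀ ≠ 0 := fun h => by
    rw [(injective_iff_map_eq_zero φ).1 hinj v₀ h] at hv₀
    simp at hv₀
  have hcan : ∀ a b : F, a • φ v₀ = b • φ v₀ → a = b := fun a b h =>
    smul_left_injective F hv0 h
  let θ₁ : F →+* F :=
    { toFun := θ₀
      map_one' := hcan _ _ (by rw [← hθ₀, one_smul, one_smul])
      map_mul' := fun a b => hcan _ _ (by rw [← hθ₀, mul_smul, hθ₀, hθ₀, smul_smul])
      map_zero' := hcan _ _ (by rw [← hθ₀, zero_smul, zero_smul, map_zero])
      map_add' := fun a b => hcan _ _ (by rw [← hθ₀, add_smul, map_add, hθ₀, hθ₀, add_smul]) }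
  let θ : F ≃+* F := RingEquiv.ofBijective θ₁
    ⟨θ₁.injective, Finite.surjective_of_injective θ₁.injective⟩
  have hθ : ∀ a w, φ (a • w) = θ a • φ w := hθ₀
  have hθσ : ∀ x, σ (θ x) = θ (σ x) := conj_comm H.conj θ₁
  -- the commutator formula
  have hcomm : ∀ w w', B (φ w) (φ w') - B (φ w') (φ w) = ψ 0 (B w w' - B w' w) := by
    intro w w'
    have h3 := (hmul _ _ _ _ (hcw w) (hcw w')).2
    have h4 := (hmul _ _ _ _ (hcw w') (hcw w)).2
    have hs : (B w w' - B w' w) + σ (B w w' - B w' w) = B 0 0 := by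
      rw [map_sub, H.symm, H.symm]; simp
    have h5 := (hmul _ _ _ _ (hval _ _ _ _ (hcw w') (hcw w)) hs).2
    rw [(hT 0 _ hs).2 rfl, h4, add_zero, add_comm w' w] at h5
    have e : cw w' + cw w + B w' w + (B w w' - B w' w) + B (w + w') 0
        = cw w + cw w' + B w w' := by rw [map_zero]; ring
    rw [e, h3, map_zero] at h5
    change _ + B (φ w) (φ w') = _ + B (φ w') (φ w) + _ + 0 at h5
    linear_combination h5
  set ρ := B (φ v₀) (φ v₀) with hρ
  have hρσ : σ ρ = ρ := H.conj_self _
  have hz : ∀ z : F, ψ 0 (z - σ z) = ρ * θ (z - σ z) := by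
    intro z
    have := hcomm v₀ (z • v₀)
    simp only [hθ, LinearMap.map_smulₛₗ, LinearMap.smul_apply, smul_eq_mul, hv₀,
      RingHom.id_apply, mul_one, ← hρ, hθσ] at this
    rw [← this, map_sub]; ring
  have hτ : ∀ s : F, s + σ s = 0 → ψ 0 s = ρ * θ s := by
    intro s hs
    obtain ⟨z, rfl⟩ := H.conj.exists_sub_conj (c := s) (eq_neg_of_add_eq_zero_right hs)
    exact hz z
  have hsim : ∀ w w', B (φ w) (φ w') = ρ * θ (B w w') := by
    intro w w'
    have key : ∀ a : F, θ a * (B (φ w) (φ w') - ρ * θ (B w w'))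
        = σ (θ a) * σ (B (φ w) (φ w') - ρ * θ (B w w')) := by
      intro a
      have h3 := hcomm w (a • w')
      have h4 := hz (a * B w w')
      simp only [hθ, LinearMap.map_smulₛₗ, LinearMap.smul_apply, smul_eq_mul,
        RingHom.id_apply] at h3
      rw [map_mul σ, H.symm] at h4
      rw [h4] at h3
      simp only [map_sub, map_mul, H.symm, hρσ, hθσ] at h3 ⊢
      linear_combination h3
    obtain ⟨t, ht⟩ := H.conj.exists_ne
    have k1 := key 1
    have k2 := key (θ.symm t)
    rw [map_one, map_one, one_mul, one_mul] at k1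
    rw [RingEquiv.apply_symm_apply, ← k1, ← sub_eq_zero, ← sub_mul] at k2
    exact sub_eq_zero.1 ((mul_eq_zero.1 k2).resolve_left (sub_ne_zero.2 ht.symm))
  have hρ0 : ρ ≠ 0 := fun h0 => hv0 (H.nd _ fun y => by
    obtain ⟨y, rfl⟩ := φe.surjective y
    rw [hφe, hsim, h0, zero_mul])
  have hη : ∀ w c, c + σ c = B w w → ψ w c - ρ * θ c = ψ w (cw w) - ρ * θ (cw w) := by
    intro w c hc
    rw [(hshift w c hc).2, hτ _ (by simpa using hskew w c hc), map_sub]
    ring
  let η : W →+ F := AddMonoidHom.mk' (fun w => ψ w (cw w) - ρ * θ (cw w)) fun w w' => by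
    rw [← hη _ _ (hval _ _ _ _ (hcw w) (hcw w')), (hmul _ _ _ _ (hcw w) (hcw w')).2]
    change _ + B (φ w) (φ w') - _ = _
    rw [hsim, map_add, map_add]
    ring
  have hη0 := invariant_eq_zero H hn η (fun v l hv hl w => by
    obtain ⟨N, hN⟩ := hLa v l hv hl
    obtain ⟨δ, hδ0, hδ⟩ := H.conj.exists_skew
    have hδ' : δ + σ δ = 0 := by rw [hδ, add_neg_cancel]
    have h3 := hN 0 δ (by simpa using hδ')
    rw [mv_of_orth _ (map_zero _), smul_zero, hτ δ hδ'] at h3
    have hN1 : N = 1 :=
      (mul_right_cancel₀ (mul_ne_zero hρ0 (by simpa using hδ0)) (h3.symm.trans (one_mul _).symm))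
    have h4 := hN w _ (hcw w)
    rw [hN1, one_mul] at h4
    change ψ _ _ - _ = ψ _ _ - _
    rw [← hη (mv B v l w) (cw w)
      (by rw [norm_mv H hv (left_ne_zero_of_mul_eq_one hl), hl, one_mul, hcw]), h4])
  refine ⟨θ, ρ, φ, hρ0, hρσ, hθ, hsim, fun w c hc => ⟨hφ w c hc, ?_⟩⟩
  rw [← sub_eq_zero, hη w c hc]
  exact hη0 w

end CL.AutU
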