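import Cfsg.Agent.AutU.Sylow
import Cfsg.Agent.AutU.Heis

/-!
# The normaliser of the projective special unitary group on the isotropic points
-/

set_option autoImplicit false

namespace CL.AutU

open Module CL.Herm

variable {F V : Type*} [Field F] [AddCommGroup V] [Module F V] {σ : F →+* F} {q : ℕ}
  {B : V →ₛₗ[σ] V →ₗ[F] F}

/-- A hyperbolic pair. -/
structure Hyp (B : V →ₛₗ[σ] V →ₗ[F] F) (e f : V) : Prop where
  ee : B e e = 0
  ff : B f f = 0
  ef : B e f = 1
  fe : B f e = 1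

/-- The orthogonal complement of `e` and `f`. -/
abbrev Wp (B : V →ₛₗ[σ] V →ₗ[F] F) (e f : V) : Submodule F V := perp B (Submodule.span F {e, f})

/-- The form restricted to the orthogonal complement. -/
abbrev BW (B : V →ₛₗ[σ] V →ₗ[F] F) (e f : V) : Wp B e f →ₛₗ[σ] Wp B e f →ₗ[F] F :=
  B.domRestrict₁₂ _ _

/-- Coordinates for the points which are not orthogonal to `e`. -/
def vec {e f : V} (w : Wp B e f) (c : F) : V := f + w - c • e

/-- `s` acts in coordinates by `(w, c) ↦ (m w, N * c)`. -/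
def Levi {e f : V} (s : Equiv.Perm (Pt B)) (m : Wp B e f → Wp B e f) (N : F) : Prop :=
  ∀ w c, c + σ c = BW B e f w w →
    N * c + σ (N * c) = BW B e f (m w) (m w) ∧ Sends s (vec w c) (vec (m w) (N * c))

variable {e f : V}

theorem Wp.left (w : Wp B e f) : B e w = 0 := (mem_perp_span_pair.1 w.2).1

theorem Wp.right (w : Wp B e f) : B f w = 0 := (mem_perp_span_pair.1 w.2).2

theorem BW_apply (w w' : Wp B e f) : BW B e f w w' = B w w' := rfl

theorem vec_zero : vec (0 : Wp B e f) 0 = f := by simp [vec]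

namespace Hyp

variable (h : Hyp B e f)
include h

theorem iso_left : Iso B e := Iso.of_ne' h.ee (h.ef ▸ one_ne_zero)

theorem iso_right : Iso B f := Iso.of_ne h.ff (h.ef ▸ one_ne_zero)

theorem left_vec (w : Wp B e f) (c : F) : B e (vec w c) = 1 := by
  simp [vec, h.ee, h.ef, Wp.left w]

theorem right_vec (w : Wp B e f) (c : F) : B f (vec w c) = -c := by
  simp [vec, h.ff, h.fe, Wp.right w]

theorem unique {π : Equiv.Perm (Pt B)} {u : V} {w w' : Wp B e f} {c c' : F}
    (h1 : Sends π u (vec w c)) (h2 : Sends π u (vec w' c')) : w = w' ∧ c = c' := by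
  obtain ⟨a, ha⟩ := h1.unique h2
  have h3 := congrArg (B e) ha
  rw [map_smul, h.left_vec, h.left_vec, smul_eq_mul, mul_one] at h3
  rw [← h3, one_smul] at ha
  have h4 := congrArg (B f) ha
  rw [h.right_vec, h.right_vec, neg_inj] at h4
  rw [h4, vec, vec, sub_left_inj, add_right_inj] at ha
  exact ⟨Subtype.ext ha.symm, h4.symm⟩

/-- The projection onto the orthogonal complement. -/
def proj : V →ₗ[F] Wp B e f := LinearMap.codRestrict _
  (LinearMap.id - (B f).smulRight e - (B e).smulRight f) fun x =>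
    mem_perp_span_pair.2 (by simp [h.ee, h.ff, h.ef, h.fe])

theorem coe_proj (x : V) : (h.proj x : V) = x - B f x • e - B e x • f := rfl

theorem proj_coe (w : Wp B e f) : h.proj w = w :=
  Subtype.ext (by simp [coe_proj, Wp.left w, Wp.right w])

theorem proj_left : h.proj e = 0 := Subtype.ext (by simp [coe_proj, h.ee, h.fe])

theorem proj_right : h.proj f = 0 := Subtype.ext (by simp [coe_proj, h.ff, h.ef])

variable (H : IsHerm q B)
include H

theorem iso {w : Wp B e f} {c : F} (hc : c + σ c = BW B e f w w) : Iso B (vec w c) :=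
  iso_vec H h.ee h.ff h.ef (Wp.left w) (Wp.right w) hc

theorem form_eq (x y : V) : B x y =
    σ (B f x) * B e y + σ (B e x) * B f y + B (h.proj x) (h.proj y) := by
  simp only [coe_proj, map_sub, LinearMap.sub_apply, LinearMap.map_smulₛₗ, LinearMap.smul_apply,
    smul_eq_mul, RingHom.id_apply, h.ee, h.ff, h.ef, h.fe, H.symm]
  ring

theorem exists_vec {u : V} (hu : Iso B u) (h0 : B e u ≠ 0) : ∃ (w : Wp B e f) (c a : F), a ≠ 0 ∧
    c + σ c = BW B e f w w ∧ u = a • vec w c := by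
  refine ⟨(B e u)⁻¹ • h.proj u, -(B f u / B e u), B e u, h0, ?_, ?_⟩
  · have h1 := h.form_eq H u u
    have h2 : σ (B e u) ≠ 0 := (map_ne_zero σ).2 h0
    rw [hu.2] at h1
    simp only [BW_apply, LinearMap.map_smulₛₗ, LinearMap.smul_apply,
      smul_eq_mul, RingHom.id_apply, map_neg, map_div₀, map_inv₀]
    field_simp
    linear_combination h1
  · simp only [vec, Submodule.coe_smul, coe_proj]
    match_scalars <;> field_simp <;> ring

theorem eich_vec {w₀ : V} {c₀ : F} {g : V ≃ₗ[F] V} (hg : IsEich B e w₀ c₀ g) (w : Wp B e f)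
    (c : F) : g (vec w c) = vec (h.proj w₀ + w)
      ((c₀ - B f w₀ + σ (B f w₀)) + c + BW B e f (h.proj w₀) w) := by
  rw [hg.eq, h.left_vec]
  simp only [vec, BW_apply, coe_proj, Submodule.coe_add, map_add, map_sub, LinearMap.sub_apply,
    LinearMap.map_smulₛₗ, LinearMap.smul_apply, smul_eq_mul, RingHom.id_apply, hg.orth,
    H.eq_zero_symm hg.orth, H.symm, Wp.left w, Wp.right w]
  module

theorem exists_of_inQ {s : Equiv.Perm (Pt B)} (hs : InQ e s) : ∃ (a : Wp B e f) (b : F),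
    ∀ w c, c + σ c = BW B e f w w → Sends s (vec w c) (vec (a + w) (b + c + BW B e f a w)) := by
  obtain ⟨w₀, c₀, g, hg, rfl⟩ := hs
  exact ⟨_, _, fun w c hc => h.eich_vec H hg w c ▸ sends_pm g (h.iso H hc)⟩

theorem exists_inQ {a : Wp B e f} {b : F} (hb : b + σ b = BW B e f a a) :
    ∃ s : Equiv.Perm (Pt B), InQ e s ∧ ∀ w c, c + σ c = BW B e f w w → Sends s (vec w c) (vec (a + w) (b + c + BW B e f a w)) := by
  obtain ⟨g, hg⟩ := H.exists_isEich h.ee (Wp.left a) hb
  refine ⟨_, ⟨a, b, ⟨g, hg.mem_UG H⟩, hg, rfl⟩, fun w c hc => ?_⟩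
  have := sends_pm ⟨g, hg.mem_UG H⟩ (h.iso H hc)
  rw [h.eich_vec H hg, h.proj_coe, Wp.right a] at this
  simpa using this

omit H in
theorem exists_of_inT {s : Equiv.Perm (Pt B)} (hs : InT e s) :
    ∃ b : F, Sends s f (vec (0 : Wp B e f) b) := by
  obtain ⟨c, g, -, hg, rfl⟩ := hs
  have := sends_pm g h.iso_right
  rw [hg, h.ef] at this
  exact ⟨-c, by simpa [vec] using this⟩

theorem levi {g : UG B} {l l' : F} (h1 : g.1 e = l • e) (h2 : g.1 f = l' • f) :
    ∃ m : Wp B e f →ₗ[F] Wp B e f, (∀ w, (m w : V) = σ l • g.1 w) ∧ Levi (pm B g) m (l * σ l) := by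
  have h3 := g.2 e f
  have h4 : ∀ w : Wp B e f, σ l * B e (g.1 w) = 0 := fun w => by
    simpa [h1, Wp.left w] using g.2 e w
  have h5 : ∀ w : Wp B e f, σ l' * B f (g.1 w) = 0 := fun w => by
    simpa [h2, Wp.right w] using g.2 f w
  simp only [h1, h2, LinearMap.map_smulₛₗ, LinearMap.smul_apply, smul_eq_mul, RingHom.id_apply,
    h.ef, mul_one] at h3
  have h6 : σ l ≠ 0 := right_ne_zero_of_mul_eq_one h3
  have h7 : σ l' ≠ 0 := (map_ne_zero σ).2 (left_ne_zero_of_mul_eq_one h3)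
  refine ⟨LinearMap.codRestrict _ (σ l • (g.1 : V →ₗ[F] V) ∘ₗ (Wp B e f).subtype) fun w =>
    mem_perp_span_pair.2 ⟨by simpa using h4 w, by simpa [h7, h6] using h5 w⟩, fun _ => rfl,
    fun w c hc => ⟨?_, ?_⟩⟩
  · change _ = B (σ l • g.1 w) (σ l • g.1 w)
    rw [IsHerm.smul_smul_self, g.2, ← BW_apply, ← hc, map_mul, H.conj.conj_norm, H.conj.invol]
    ring
  · refine (sends_pm_iff (h.iso H hc)).2 ⟨σ l, h6, ?_⟩
    change f + σ l • g.1 w - _ = _
    rw [vec, map_sub, map_add, map_smul, h1, h2, smul_sub, smul_add, smul_smul,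
      mul_comm (σ l) l', h3]
    module

theorem levi' {s : Equiv.Perm (Pt B)} (hs : s ∈ PS B) (h1 : Sends s e e) (h2 : Sends s f f) :
    ∃ (m : Wp B e f →ₗ[F] Wp B e f) (N : F), Levi s m N := by
  obtain ⟨g, -, rfl⟩ := mem_PS.1 hs
  obtain ⟨l, -, hl⟩ := h1.pm_self
  obtain ⟨l', -, hl'⟩ := h2.pm_self
  obtain ⟨m, -, hm⟩ := h.levi H hl hl'
  exact ⟨m, _, hm⟩

variable [FiniteDimensional F V]

theorem exists_levi_mv {v : Wp B e f} (hv : BW B e f v v = 1) {l : F} (hl : l ≠ 0) :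
    ∃ s ∈ PS B, Sends s e e ∧ Sends s f f ∧ Levi s (mv (BW B e f) v l) (l * σ l) := by
  have hl' : σ l ≠ 0 := (map_ne_zero σ).2 hl
  obtain ⟨D, hD⟩ := H.exists_isDiag h.ff h.ef hl (inv_ne_zero hl')
  have hDU := hD.mem_UG H h.ee h.ff h.ef (mul_inv_cancel₀ hl')
  obtain ⟨R, hRU, hR, hRd⟩ := H.exists_quasiRefl (e := (v : V)) hv (d := σ l / l) (by
    rw [map_div₀, H.conj.invol]; field_simp)
  let g : UG B := ⟨D * R, mul_mem hDU hRU⟩
  have h1 : g.1 e = l • e := by
    change D (R e) = _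
    rw [hR.apply_of_orth (H.eq_zero_symm (Wp.left v)), hD.apply_left H h.ee h.ef]
  have h2 : g.1 f = (σ l)⁻¹ • f := by
    change D (R f) = _
    rw [hR.apply_of_orth (H.eq_zero_symm (Wp.right v)), hD.apply_right h.ff h.ef]
  obtain ⟨m, hm, hm'⟩ := h.levi H h1 h2
  have h3 : (m : _ → _) = mv (BW B e f) v l := by
    ext w
    rw [hm]
    change σ l • D (R w) = _
    rw [hR, map_add, map_smul, hD.apply_of_orth (Wp.left w) (Wp.right w),
      hD.apply_of_orth (Wp.left v) (Wp.right v)]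
    rfl
  refine ⟨pm B g, pm_mem_PS (mem_SUG.2 ⟨g.2, ?_⟩), ?_, ?_, h3 ▸ hm'⟩
  · change LinearMap.det ((D : V →ₗ[F] V) * (R : V →ₗ[F] V)) = 1
    rw [map_mul, hD.det H h.ff h.ef, hRd]
    field_simp
  · exact (sends_pm_iff h.iso_left).2 ⟨l⁻¹, inv_ne_zero hl, by rw [h1, inv_smul_smul₀ hl]⟩
  · exact (sends_pm_iff h.iso_right).2 ⟨σ l, hl', by rw [h2, smul_inv_smul₀ hl']⟩

theorem exists_levi_unit {v v' : Wp B e f} (hv : BW B e f v v = 1) (hv' : BW B e f v' v' = 1) :
    ∃ s ∈ PS B, Sends s e e ∧ Sends s f f ∧ ∃ (m : Wp B e f →ₗ[F] Wp B e f) (μ N : F), μ ≠ 0 ∧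
      m v = μ • v' ∧ Levi s m N := by
  have key : ∀ {v : Wp B e f}, BW B e f v v = 1 → (v : V) ∉ Submodule.span F {e, f} :=
    fun {v} hv hc => one_ne_zero (hv.symm.trans (v.2 _ hc))
  obtain ⟨k, hkU, hk, hkv⟩ := H.witt_fix (key hv) (key hv') (fun x hx => by
    rw [H.eq_zero_symm (v.2 x hx), H.eq_zero_symm (v'.2 x hx)]) (hv'.trans hv.symm)
  have hd := H.det_mul_conj hkU
  have hd0 := left_ne_zero_of_mul_eq_one hd
  obtain ⟨R, hRU, hR, hRd⟩ := H.exists_quasiRefl (e := (v' : V)) hv'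
    (d := (LinearMap.det (k : V →ₗ[F] V))⁻¹) (by rw [map_inv₀, ← mul_inv, hd, inv_one])
  let g : UG B := ⟨R * k, mul_mem hRU hkU⟩
  have h1 : g.1 e = (1 : F) • e := by
    change R (k e) = _
    rw [hk e (Submodule.subset_span (by simp)), hR.apply_of_orth (H.eq_zero_symm (Wp.left v')),
      one_smul]
  have h2 : g.1 f = (1 : F) • f := by
    change R (k f) = _
    rw [hk f (Submodule.subset_span (by simp)), hR.apply_of_orth (H.eq_zero_symm (Wp.right v')),
      one_smul]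
  obtain ⟨m, hm, hm'⟩ := h.levi H h1 h2
  refine ⟨pm B g, pm_mem_PS (mem_SUG.2 ⟨g.2, ?_⟩), sends_pm_self h.iso_left (by simpa using h1),
    sends_pm_self h.iso_right (by simpa using h2), m, _, _, inv_ne_zero hd0, Subtype.ext ?_, hm'⟩
  · change LinearMap.det ((R : V →ₗ[F] V) * (k : V →ₗ[F] V)) = 1
    rw [map_mul, hRd, inv_mul_cancel₀ hd0]
  · rw [hm]
    change σ 1 • R (k v) = _
    rw [hkv, hR, ← BW_apply, hv', map_one, Submodule.coe_smul]
    module

end Hyp

variable (H : IsHerm q B) [FiniteDimensional F V]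
include H

theorem exists_gam (g : V →+ V) (θ : F ≃+* F) {ρ : F} (h0 : ρ ≠ 0) (hρ : σ ρ = ρ)
    (h1 : ∀ (a : F) x, g (a • x) = θ a • g x) (h2 : ∀ x y, B (g x) (g y) = ρ * θ (B x y)) :
    ∃ γ : Gam B, ∀ u, Iso B u → Sends (pg B γ) u (g u) := by
  have := H.finite
  obtain ⟨a, ha⟩ := H.conj.exists_norm (c := ρ⁻¹) (by rw [map_inv₀, hρ])
  have ha0 : a ≠ 0 := by
    rintro rfl
    exact inv_ne_zero h0 (by simpa using ha.symm)
  let g' : V →+ V := AddMonoidHom.mk' (fun x => a • g x) fun x y => by rw [map_add, smul_add]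
  have h3 : ∀ x y, B (g' x) (g' y) = θ (B x y) := fun x y => by
    change B (a • g x) (a • g y) = _
    simp only [LinearMap.map_smulₛₗ, LinearMap.smul_apply, smul_eq_mul, RingHom.id_apply, h2]
    rw [← mul_assoc, ← mul_assoc, ha, inv_mul_cancel₀ h0, one_mul]
  have hinj : Function.Injective g' := (injective_iff_map_eq_zero g').2 fun x hx =>
    H.nd x fun y => θ.injective (by rw [← h3, hx]; simp)
  refine ⟨⟨((AddEquiv.ofBijective g' ⟨hinj, Finite.surjective_of_injective hinj⟩).toIntLinearEquiv,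
    θ), fun b x => ?_, h3⟩, fun u hu => ?_⟩
  · change a • g (b • x) = θ b • a • g x
    rw [h1, smul_comm]
  · exact inv_smul_smul₀ ha0 (g u) ▸ (sends_pg _ hu).smul_right (inv_ne_zero ha0)

theorem eq_one_of_fix {π : Equiv.Perm (Pt B)} (he : Sends π e e)
    (h1 : ∀ u v u' v', Sends π u v → Sends π u' v' → B u u' = 0 → B v v' = 0)
    (h2 : ∀ u, Iso B u → B e u ≠ 0 → Sends π u u) : π = 1 := by
  refine perm_eq_one fun y hy => ?_
  by_cases hey : B e y = 0
  swap
  · exact h2 y hy hey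
  by_cases hye : e ∈ F ∙ y
  · obtain ⟨a, rfl⟩ := Submodule.mem_span_singleton.1 hye
    have ha := he.left.ne_zero_of_smul
    simpa [ha] using (he.smul_left (inv_ne_zero ha)).smul_right (inv_ne_zero ha)
  obtain ⟨y', hy'⟩ := exists_sends π hy
  obtain ⟨z₀, -, hz₀, hez₀, hyz₀⟩ := H.exists_partner H.nd_top le_top trivial hye he.left.2
    (mem_perp_span_singleton.2 (H.eq_zero_symm hey))
  have hyz₀' := mem_perp_span_singleton.1 hyz₀
  have key : ∀ z, B z z = 0 → B e z ≠ 0 → B y z = 0 → B y' z = 0 := fun z hz hez hyz =>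
    h1 _ _ _ _ hy' (h2 z (Iso.of_ne hz hez) hez) hyz
  obtain ⟨a, rfl⟩ := exists_smul_of_forall_orth H hy hy'.right.2 fun z hz hyz => by
    by_cases hez : B e z = 0
    swap
    · exact key z hz.2 hez hyz
    have h3 : B e (z₀ + z) ≠ 0 := by simp [hez, hez₀]
    obtain ⟨b, hb⟩ := H.exists_add_smul_norm_eq he.left.2 h3 (map_zero σ)
    have h4 := key _ hb (by simpa [he.left.2] using h3)
      (by simp [hyz₀', hyz, H.eq_zero_symm hey])
    simpa [key z₀ hz₀ (hez₀ ▸ one_ne_zero) hyz₀', h1 _ _ _ _ hy' he (H.eq_zero_symm hey)] using h4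
  have ha := hy'.right.ne_zero_of_smul
  simpa [ha] using hy'.smul_right (inv_ne_zero ha)

variable (p : ℕ) [Fact p.Prime] [CharP F p]

theorem mem_range_of_fix (h3 : 3 ≤ finrank F V) (hn : ¬ (finrank F V = 3 ∧ q = 2)) (hpq : p ∣ q)
    (h : Hyp B e f) {π : Equiv.Perm (Pt B)} (hπ : π ∈ AutPerm.permNorm (PS B) (Pt B))
    (he : Sends π e e) (hf : Sends π f f) : π ∈ (pg B).range := by
  have hπ' := Subgroup.inv_mem _ hπ
  have hWr : finrank F (Wp B e f) + 2 = finrank F V := by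
    rw [← H.finrank_perp_add (Submodule.span F {e, f}),
      IsHerm.finrank_span_pair h.ee (h.ef ▸ one_ne_zero)]
  have HW : IsHerm q (BW B e f) :=
    H.restrict (H.nd_perp (H.nd_span_pair h.ee (h.ef ▸ one_ne_zero)))
  have hex : ∀ (w : Wp B e f) (c : F), ∃ (w' : Wp B e f) (c' : F), c + σ c = BW B e f w w →
      c' + σ c' = BW B e f w' w' ∧ Sends π (vec w c) (vec w' c') := by
    intro w c
    by_cases hc : c + σ c = BW B e f w w
    swap
    · exact ⟨0, 0, fun h => absurd h hc⟩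
    obtain ⟨v, hv⟩ := exists_sends π (h.iso H hc)
    obtain ⟨w', c', a, ha, hc', rfl⟩ := h.exists_vec H hv.right (by
      rw [Ne, ← orth_of_permNorm H p h3 hpq hπ he hv, h.left_vec]; exact one_ne_zero)
    exact ⟨w', c', fun _ => ⟨hc', by simpa [ha] using hv.smul_right (inv_ne_zero ha)⟩⟩
  choose φ' ψ hφ using hex
  have hzero : ∀ {π : Equiv.Perm (Pt B)}, π ∈ AutPerm.permNorm (PS B) (Pt B) → Sends π e e →
      Sends π f f → ∀ (c c' : F) (w' : Wp B e f), Sends π (vec (0 : Wp B e f) c) (vec w' c') →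
      c + σ c = 0 → w' = 0 := by
    intro π hπ he hf c c' w' hs hc
    obtain ⟨t, ht⟩ := exists_isTv' h.ee (-c)
    have hc' : -c + σ (-c) = 0 := by rw [map_neg, ← neg_add, hc, neg_zero]
    have h1 : InT e (pm B ⟨t, (ht.mem_SUG H h.ee hc').1⟩) := ⟨-c, _, hc', ht, rfl⟩
    have h2 := sends_pm ⟨t, (ht.mem_SUG H h.ee hc').1⟩ h.iso_right
    have h4 : t f = vec (0 : Wp B e f) c := by rw [ht, h.ef]; simp [vec, sub_eq_add_neg]
    obtain ⟨b, hb⟩ := h.exists_of_inT (h1.conj_of_permNorm H p h3 hpq hπ he)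
    exact (h.unique ((hs.mul (h4 ▸ h2)).mul hf.inv) hb).1
  have hlev : ∀ {s m m' N N'}, Levi s m N → Levi (π * s * π⁻¹) m' N' → ∀ w c,
      c + σ c = BW B e f w w → φ' (m w) (N * c) = m' (φ' w c) ∧ ψ (m w) (N * c) = N' * ψ w c :=
    fun h1 h2 w c hc => h.unique (((hφ _ _ (h1 w c hc).1).2.mul (h1 w c hc).2).mul
      (hφ w c hc).2.inv) (h2 _ _ (hφ w c hc).1).2
  have hlev' : ∀ {s m N}, s ∈ PS B → Sends s e e → Sends s f f → Levi s m N →
      ∃ (m' : Wp B e f →ₗ[F] Wp B e f) (N' : F), ∀ w c, c + σ c = BW B e f w w →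
        N' * c + σ (N' * c) = BW B e f (m' w) (m' w) ∧ φ' (m' w) (N' * c) = m (φ' w c) := by
    intro s m N hs h1 h2 hL
    obtain ⟨m', N', hL'⟩ := h.levi' H (conj_mem_of_permNorm hπ' hs)
      ((he.inv.mul h1).mul he.inv.inv) ((hf.inv.mul h2).mul hf.inv.inv)
    exact ⟨m', N', fun w c hc => ⟨(hL' w c hc).1,
      (hlev hL' (by simpa [mul_assoc] using hL) w c hc).1⟩⟩
  obtain ⟨θ, ρ, φ, hρ0, hρ, hθ, hsim, hφψ⟩ := heis_aut HW (by omega) (by omega) φ' ψ
    (fun w c w' c' hc hc' => by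
      obtain ⟨s, hs, hs'⟩ := h.exists_inQ H hc
      obtain ⟨a, b, hab⟩ := h.exists_of_inQ H (hs.conj_of_permNorm H p h3 hpq hπ he)
      have h1 := hab 0 0 (by simp)
      have h2 := hs' 0 0 (by simp)
      simp only [vec_zero, add_zero, map_zero] at h1 h2
      obtain ⟨rfl, rfl⟩ := h.unique h1 (((hφ w c hc).2.mul h2).mul hf.inv)
      have h4 : (c + c' + BW B e f w w') + σ (c + c' + BW B e f w w')
          = BW B e f (w + w') (w + w') := by
        simp only [map_add, LinearMap.add_apply, HW.symm]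
        linear_combination hc + hc'
      exact h.unique (((hφ _ _ h4).2.mul (hs' w' c' hc')).mul (hφ w' c' hc').2.inv)
        (hab _ _ (hφ w' c' hc').1))
    (fun w c hc => ⟨fun h0 => hzero hπ' he.inv hf.inv _ _ _ (h0 ▸ (hφ w c hc).2.inv)
        (by simpa [h0] using (hφ w c hc).1),
      by rintro rfl; exact hzero hπ he hf _ _ _ (hφ 0 c hc).2 (by simpa using hc)⟩)
    (fun v l hv hl => by
      obtain ⟨s, hs, h1, h2, hL⟩ := h.exists_levi_mv H hv (left_ne_zero_of_mul_eq_one hl)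
      obtain ⟨m', N', hL'⟩ := h.levi' H (conj_mem_of_permNorm hπ hs)
        ((he.mul h1).mul he.inv) ((hf.mul h2).mul hf.inv)
      exact ⟨N', fun w c hc => by simpa [hl] using (hlev hL hL' w c hc).2⟩)
    (fun v l hv hl => by
      obtain ⟨s, hs, h1, h2, hL⟩ := h.exists_levi_mv H hv hl
      exact hlev' hs h1 h2 hL)
    (fun v v' hv hv' => by
      obtain ⟨s, hs, h1, h2, m, μ, N, hμ, hm, hL⟩ := h.exists_levi_unit H hv hv'
      exact ⟨m, μ, hμ, hm, hlev' hs h1 h2 hL⟩)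
  let g : V →+ V := AddMonoidHom.mk'
    (fun x => (ρ * θ (B f x)) • e + θ (B e x) • f + (φ (h.proj x) : V)) fun x y => by
      simp only [map_add, Submodule.coe_add]
      module
  have hg : ∀ x, g x = (ρ * θ (B f x)) • e + θ (B e x) • f + (φ (h.proj x) : V) := fun _ => rfl
  have hθσ : ∀ x, σ (θ x) = θ (σ x) := conj_comm H.conj (θ : F →+* F)
  obtain ⟨γ, hγ⟩ := exists_gam H g θ hρ0 hρ (fun a x => by
    simp only [hg, map_smul, hθ, smul_eq_mul, map_mul, Submodule.coe_smul]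
    module) (fun x y => by
    have h1 := hsim (h.proj x) (h.proj y)
    rw [BW_apply, BW_apply] at h1
    rw [h.form_eq H x y]
    simp only [hg, map_add, LinearMap.add_apply, LinearMap.map_smulₛₗ, LinearMap.smul_apply,
      smul_eq_mul, RingHom.id_apply, h.ee, h.ff, h.ef, h.fe, Wp.left, Wp.right, map_mul, hρ, hθσ,
      H.eq_zero_symm (Wp.left _), H.eq_zero_symm (Wp.right _), h1]
    ring)
  have hπγ : (pg B γ)⁻¹ * π ∈ AutPerm.permNorm (PS B) (Pt B) :=
    mul_mem (inv_mem (range_pg_le_permNorm H hn ⟨γ, rfl⟩)) hπ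
  refine ⟨γ, inv_mul_eq_one.1 (eq_one_of_fix H (e := e) ?_
    (fun u v u' v' h1 h2 => (orth_of_permNorm H p h3 hpq hπγ h1 h2).1) fun u hu hu' => ?_)⟩
  · have := hγ e h.iso_left
    rw [hg, h.proj_left, h.ee, h.fe] at this
    simp only [map_one, mul_one, map_zero, zero_smul, add_zero, ZeroMemClass.coe_zero] at this
    exact this.inv.mul (he.smul_right hρ0)
  · obtain ⟨w, c, a, ha, hc, rfl⟩ := h.exists_vec H hu hu'
    have h1 := hγ _ (h.iso H hc)
    have h2 := (hφ w c hc).2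
    have h4 : h.proj (vec w c) = w := by
      simp [vec, h.proj_left, h.proj_right, h.proj_coe]
    have h5 : g (vec w c) = vec (φ w) (ρ * θ c) := by
      rw [hg, h4, h.left_vec, h.right_vec, vec, map_one, map_neg]
      module
    rw [(hφψ w c hc).1, (hφψ w c hc).2, ← h5] at h2
    exact ((h1.inv.mul h2).smul_left ha).smul_right ha

theorem permNorm_eq (h3 : 3 ≤ finrank F V) (hn : ¬ (finrank F V = 3 ∧ q = 2)) (hpq : p ∣ q) :
    AutPerm.permNorm (PS B) (Pt B) = (pg B).range := by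
  refine le_antisymm (fun π hπ => ?_) (range_pg_le_permNorm H hn)
  obtain ⟨e, f, he, hf, hef⟩ := exists_hyp H (by omega)
  have h : Hyp B e f := ⟨he, hf, hef, H.eq_one_symm hef⟩
  obtain ⟨e', he'⟩ := exists_sends π h.iso_left
  obtain ⟨f', hf'⟩ := exists_sends π h.iso_right
  have h1 : B e' f' ≠ 0 := by
    rw [Ne, ← orth_of_permNorm H p h3 hpq hπ he' hf', hef]
    exact one_ne_zero
  have hf'' := hf'.smul_right (inv_ne_zero h1)
  obtain ⟨g, hg, hge, hgf⟩ := H.exists_eichG_apply_pair H.nd_top (by rwa [finrank_top])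
    (p := e') (s := (B e' f')⁻¹ • f') (p' := e) (s' := f) trivial trivial trivial trivial
    he'.right.2 he (hf.trans hf''.right.2.symm) (by simp [h1]) (by simp [h1, hef])
  have hg' := H.eichG_le_SUG _ hg
  have h2 := PS_le_range (pm_mem_PS (g := ⟨g, hg'.1⟩) hg')
  have h5 := (sends_pm ⟨g, hg'.1⟩ he'.right).mul he'
  have h6 := (sends_pm ⟨g, hg'.1⟩ hf''.right).mul hf''
  rw [hge] at h5
  rw [hgf] at h6
  have h4 := mem_range_of_fix H p h3 hn hpq h (mul_mem (range_pg_le_permNorm H hn h2) hπ) h5 h6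
  exact (Subgroup.mul_mem_cancel_left _ h2).1 h4

/-- The order of the automorphism group of the projective special unitary group. -/
theorem card_mulAut_PS (h3 : 3 ≤ finrank F V) (hn : ¬ (finrank F V = 3 ∧ q = 2)) (hpq : p ∣ q) :
    Nat.card (MulAut (PS B)) =
      Nat.gcd (finrank F V) (q + 1) * Nat.card (RingAut F) * Nat.card (PS B) := by
  rw [← card_range_pg H h3, ← permNorm_eq H p h3 hn hpq, ← AutPerm.card_permAut_eq (eq_of_fix H),
    permAut_eq_top H p h3 hpq, Subgroup.card_top]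

end CL.AutU
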