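import Cfsg.Agent.Base
import Cfsg.Agent.Unitary.Simple
import Cfsg.Agent.GLn.AutPerm

/-!
# The isotropic points of a unitary space and the semilinear isometries acting on them
-/

set_option autoImplicit false

namespace CL.AutU

open Module CL.Herm

variable {F V : Type*} [Field F] [AddCommGroup V] [Module F V] {σ : F →+* F} {q : ℕ}

/-- Non-zero isotropic vectors. -/
def Iso (B : V →ₛₗ[σ] V →ₗ[F] F) (v : V) : Prop := v ≠ 0 ∧ B v v = 0

/-- Proportionality of isotropic vectors. -/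
def isoSetoid (B : V →ₛₗ[σ] V →ₗ[F] F) : Setoid {v : V // Iso B v} where
  r v w := ∃ a : F, w.1 = a • v.1
  iseqv :=
    { refl := fun v => ⟨1, (one_smul _ _).symm⟩
      symm := fun {v w} ⟨a, h⟩ => ⟨a⁻¹, by
        have : a ≠ 0 := by rintro rfl; exact w.2.1 (by simpa using h)
        rw [h, inv_smul_smul₀ this]⟩
      trans := fun ⟨a, h⟩ ⟨b, h'⟩ => ⟨b * a, by rw [h', h, smul_smul]⟩ }

/-- The isotropic points. -/
def Pt (B : V →ₛₗ[σ] V →ₗ[F] F) : Type _ := Quotient (isoSetoid B)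

variable {B : V →ₛₗ[σ] V →ₗ[F] F}

/-- The point spanned by an isotropic vector. -/
def pt {v : V} (h : Iso B v) : Pt B := Quotient.mk (isoSetoid B) ⟨v, h⟩

theorem pt_eq_iff {v w : V} {hv : Iso B v} {hw : Iso B w} :
    pt hv = pt hw ↔ ∃ a : F, w = a • v := Quotient.eq

theorem exists_pt (x : Pt B) : ∃ v, ∃ h : Iso B v, x = pt h :=
  Quotient.inductionOn x fun v => ⟨v.1, v.2, rfl⟩

theorem Iso.smul {v : V} (h : Iso B v) {a : F} (ha : a ≠ 0) : Iso B (a • v) :=
  ⟨smul_ne_zero ha h.1, by simp [h.2]⟩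

theorem Iso.ne_zero_of_smul {v : V} {a : F} (h : Iso B (a • v)) : a ≠ 0 := by
  rintro rfl
  exact h.1 (zero_smul _ _)

theorem Iso.of_ne {v w : V} (h : B v v = 0) (h' : B w v ≠ 0) : Iso B v :=
  ⟨by rintro rfl; simp at h', h⟩

theorem Iso.of_ne' {v w : V} (h : B v v = 0) (h' : B v w ≠ 0) : Iso B v :=
  ⟨by rintro rfl; simp at h', h⟩

/-- The permutation `π` of the points sends the point of `u` to the point of `v`. -/
def Sends (π : Equiv.Perm (Pt B)) (u v : V) : Prop :=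
  ∃ (hu : Iso B u) (hv : Iso B v), π (pt hu) = pt hv

namespace Sends

variable {π π' : Equiv.Perm (Pt B)} {u v v' w : V}

theorem left (h : Sends π u v) : Iso B u := h.1

theorem right (h : Sends π u v) : Iso B v := h.2.1

theorem eq (h : Sends π u v) (hu : Iso B u) (hv : Iso B v) : π (pt hu) = pt hv := h.2.2

theorem smul_right (h : Sends π u v) {a : F} (ha : a ≠ 0) : Sends π u (a • v) :=
  ⟨h.1, h.right.smul ha, h.2.2.trans (pt_eq_iff.2 ⟨a, rfl⟩)⟩

theorem mul (h' : Sends π' v w) (h : Sends π u v) : Sends (π' * π) u w :=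
  ⟨h.1, h'.right, by rw [Equiv.Perm.mul_apply, h.eq _ h'.left, h'.eq]⟩

theorem inv (h : Sends π u v) : Sends π⁻¹ v u :=
  ⟨h.right, h.1, by rw [← h.eq h.1 h.right]; simp⟩

theorem smul_left (h : Sends π u v) {a : F} (ha : a ≠ 0) : Sends π (a • u) v :=
  inv_inv π ▸ (h.inv.smul_right ha).inv

theorem unique (h : Sends π u v) (h' : Sends π u v') : ∃ a : F, v' = a • v :=
  pt_eq_iff.1 ((h.eq h.1 h.right).symm.trans (h'.eq h.1 h'.right))

theorem unique' (h : Sends π u v) (h' : Sends π u v') : ∃ a : F, a ≠ 0 ∧ v' = a • v := by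
  obtain ⟨a, rfl⟩ := h.unique h'
  exact ⟨a, h'.right.ne_zero_of_smul, rfl⟩

theorem one (hu : Iso B u) : Sends (1 : Equiv.Perm (Pt B)) u u := ⟨hu, hu, rfl⟩

end Sends

theorem exists_sends (π : Equiv.Perm (Pt B)) {u : V} (hu : Iso B u) : ∃ v, Sends π u v := by
  obtain ⟨v, hv, h⟩ := exists_pt (π (pt hu))
  exact ⟨v, hu, hv, h⟩

theorem perm_ext {π π' : Equiv.Perm (Pt B)} (h : ∀ u v, Sends π u v → Sends π' u v) : π = π' := by
  ext x
  obtain ⟨u, hu, rfl⟩ := exists_pt x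
  obtain ⟨v, hv⟩ := exists_sends π hu
  rw [hv.eq hu hv.right, (h u v hv).eq hu hv.right]

theorem perm_eq_one {π : Equiv.Perm (Pt B)} (h : ∀ u, Iso B u → Sends π u u) : π = 1 := by
  ext x
  obtain ⟨u, hu, rfl⟩ := exists_pt x
  exact (h u hu).eq hu hu

/-- The semilinear isometries, with their field automorphisms. -/
def Gam (B : V →ₛₗ[σ] V →ₗ[F] F) : Subgroup ((V ≃ₗ[ℤ] V) × RingAut F) where
  carrier := {e | (∀ (a : F) x, e.1 (a • x) = e.2 a • e.1 x) ∧
    ∀ x y, B (e.1 x) (e.1 y) = e.2 (B x y)}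
  mul_mem' {a b} ha hb := ⟨fun c x => by
      simp only [Prod.fst_mul, Prod.snd_mul, LinearEquiv.mul_apply, RingAut.mul_apply, hb.1, ha.1],
    fun x y => by
      simp only [Prod.fst_mul, Prod.snd_mul, LinearEquiv.mul_apply, RingAut.mul_apply, hb.2, ha.2]⟩
  one_mem' := ⟨fun _ _ => rfl, fun _ _ => rfl⟩
  inv_mem' {a} ha := ⟨fun c x => a.1.injective (by rw [ha.1]; simp), fun x y => a.2.injective (by
    rw [← ha.2]; simp)⟩

theorem Iso.gam {v : V} (h : Iso B v) (γ : Gam B) : Iso B (γ.1.1 v) :=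
  ⟨by simpa using h.1, by rw [γ.2.2, h.2, map_zero]⟩

instance gamAction : MulAction (Gam B) (Pt B) where
  smul γ := Quotient.map' (fun v => ⟨γ.1.1 v.1, v.2.gam γ⟩) fun v w ⟨a, h⟩ =>
    ⟨γ.1.2 a, by change γ.1.1 w.1 = _; rw [h, γ.2.1]⟩
  one_smul x := Quotient.inductionOn x fun _ => rfl
  mul_smul _ _ x := Quotient.inductionOn x fun _ => rfl

/-- The permutation of the points induced by a semilinear isometry. -/
def pg (B : V →ₛₗ[σ] V →ₗ[F] F) : Gam B →* Equiv.Perm (Pt B) := MulAction.toPermHom _ _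

theorem sends_pg (γ : Gam B) {u : V} (hu : Iso B u) : Sends (pg B γ) u (γ.1.1 u) :=
  ⟨hu, hu.gam γ, rfl⟩

/-- Isometries as semilinear isometries. -/
def toGam (B : V →ₛₗ[σ] V →ₗ[F] F) : UG B →* Gam B where
  toFun g := ⟨(g.1.restrictScalars ℤ, 1), fun a x => g.1.map_smul a x, g.2⟩
  map_one' := rfl
  map_mul' _ _ := rfl

theorem toGam_apply (g : UG B) (x : V) : (toGam B g).1.1 x = g.1 x := rfl

theorem toGam_injective : Function.Injective (toGam B) := fun g g' h =>
  Subtype.ext (LinearEquiv.ext fun x => by rw [← toGam_apply, h, toGam_apply])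

theorem mem_range_toGam {γ : Gam B} : γ ∈ (toGam B).range ↔ γ.1.2 = 1 := by
  refine ⟨by rintro ⟨g, rfl⟩; rfl, fun h => ?_⟩
  let g : V ≃ₗ[F] V := { γ.1.1 with map_smul' := fun a x => by simpa [h] using γ.2.1 a x }
  exact ⟨⟨g, fun x y => (γ.2.2 x y).trans (by rw [h]; rfl)⟩, Subtype.ext (Prod.ext rfl h.symm)⟩

/-- The permutation of the points induced by an isometry. -/
def pm (B : V →ₛₗ[σ] V →ₗ[F] F) : UG B →* Equiv.Perm (Pt B) := (pg B).comp (toGam B)

theorem sends_pm (g : UG B) {u : V} (hu : Iso B u) : Sends (pm B g) u (g.1 u) :=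
  sends_pg (toGam B g) hu

theorem sends_pm_iff {g : UG B} {u v : V} (hu : Iso B u) :
    Sends (pm B g) u v ↔ ∃ a : F, a ≠ 0 ∧ v = a • g.1 u :=
  ⟨fun h => (sends_pm g hu).unique' h, fun ⟨_, ha, h⟩ => h ▸ (sends_pm g hu).smul_right ha⟩

theorem Sends.pm_self {g : UG B} {u : V} (h : Sends (pm B g) u u) :
    ∃ a : F, a ≠ 0 ∧ g.1 u = a • u := h.unique' (sends_pm g h.left)

theorem sends_pm_self {g : UG B} {u : V} (hu : Iso B u) (h : g.1 u = u) : Sends (pm B g) u u := by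
  simpa [h] using sends_pm g hu

/-- The projective special unitary group as a permutation group on the isotropic points. -/
noncomputable def PS (B : V →ₛₗ[σ] V →ₗ[F] F) : Subgroup (Equiv.Perm (Pt B)) :=
  ((pm B).comp (Subgroup.inclusion SUG_le_UG)).range

theorem mem_PS {s : Equiv.Perm (Pt B)} : s ∈ PS B ↔ ∃ g : UG B, g.1 ∈ SUG B ∧ pm B g = s :=
  ⟨fun ⟨g, h⟩ => ⟨_, g.2, h⟩, fun ⟨g, hg, h⟩ => ⟨⟨g.1, hg⟩, h⟩⟩

theorem pm_mem_PS {g : UG B} (hg : g.1 ∈ SUG B) : pm B g ∈ PS B := mem_PS.2 ⟨g, hg, rfl⟩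

theorem PS_le_range : PS B ≤ (pg B).range := fun _ hs => by
  obtain ⟨g, -, rfl⟩ := mem_PS.1 hs
  exact ⟨_, rfl⟩

variable (H : IsHerm q B) [FiniteDimensional F V]
include H

theorem finite_Pt : Finite (Pt B) := by
  have := H.finite
  unfold Pt
  infer_instance

theorem pm_eq_one_iff (h2 : 2 ≤ finrank F V) {g : UG B} :
    pm B g = 1 ↔ ∃ u : Fˣ, g.1 = scalarAut V u := by
  constructor
  · intro h
    refine H.exists_eq_scalarAut_of_isotropic h2 fun p hp => ?_
    by_cases h0 : p = 0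
    · simp [h0]
    obtain ⟨a, -, ha⟩ := (h ▸ Sends.one (⟨h0, hp⟩ : Iso B p) : Sends (pm B g) p p).pm_self
    exact Submodule.mem_span_singleton.2 ⟨a, ha.symm⟩
  · rintro ⟨u, hu⟩
    refine perm_eq_one fun v hv => (sends_pm_iff hv).2 ⟨(u⁻¹ : Fˣ), (u⁻¹).ne_zero, ?_⟩
    rw [hu, scalarAut_apply, smul_smul, Units.inv_mul, one_smul]

theorem ker_pm (h2 : 2 ≤ finrank F V) : (pm B).ker = Subgroup.center (UG B) := by
  ext g
  rw [MonoidHom.mem_ker, pm_eq_one_iff H h2, H.mem_center_UG h2]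

/-- Two isometries with the same action on the points which agree at a non-zero vector agree. -/
theorem eq_of_pm_eq (h2 : 2 ≤ finrank F V) {g g' : UG B} (h : pm B g = pm B g') {v : V}
    (hv : v ≠ 0) (hg : g.1 v = g'.1 v) : g = g' := by
  obtain ⟨u, hu⟩ := (pm_eq_one_iff H h2 (g := g'⁻¹ * g)).1 (by rw [map_mul, map_inv, h]; simp)
  have h1 : (g'⁻¹ * g).1 v = v := by simp [hg]
  rw [hu, scalarAut_apply] at h1
  have h3 : (u : F) = 1 := smul_left_injective F hv (h1.trans (one_smul _ _).symm)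
  rw [Units.val_eq_one.1 h3, map_one] at hu
  exact (inv_mul_eq_one.1 (Subtype.ext hu)).symm

/-- The permutation group `PS B` is the central quotient of the special unitary group. -/
theorem nonempty_equiv_PS (h2 : 2 ≤ finrank F V) :
    Nonempty ((SUG B ⧸ Subgroup.center (SUG B)) ≃* PS B) := by
  have : ((pm B).comp (Subgroup.inclusion SUG_le_UG)).ker = Subgroup.center (SUG B) := by
    ext g
    rw [MonoidHom.mem_ker, MonoidHom.comp_apply, pm_eq_one_iff H h2, H.mem_center_SUG h2]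
    rfl
  exact ⟨(QuotientGroup.quotientMulEquivOfEq this.symm).trans
    (QuotientGroup.quotientKerEquivRange _)⟩

theorem card_PS (h2 : 2 ≤ finrank F V) :
    Nat.gcd (finrank F V) (q + 1) * Nat.card (PS B) = Nat.card (SUG B) := by
  obtain ⟨e⟩ := nonempty_equiv_PS H h2
  rw [← Nat.card_congr e.toEquiv, ← H.card_center_SUG h2, ← Subgroup.card_mul_index
    (Subgroup.center (SUG B))]
  rfl

theorem card_Gam : Nat.card (Gam B) = Nat.card (RingAut F) * Nat.card (UG B) := by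
  let s : Gam B →* RingAut F := (MonoidHom.snd _ _).comp (Gam B).subtype
  have hker : s.ker = (toGam B).range := by
    ext γ
    rw [mem_range_toGam, MonoidHom.mem_ker]
    rfl
  have hs : Function.Surjective s := by
    intro θ
    obtain ⟨e, he⟩ := H.exists_equiv_std rfl
    let t : (Fin (finrank F V) → F) ≃+ (Fin (finrank F V) → F) :=
      AddEquiv.piCongrRight fun _ => θ.toAddEquiv
    have ht : ∀ x i, t x i = θ (x i) := fun _ _ => rfl
    let g : V ≃+ V := (e.toAddEquiv.trans t).trans e.toAddEquiv.symm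
    have hg : ∀ x, e (g x) = t (e x) := fun x => e.apply_symm_apply _
    refine ⟨⟨(g.toIntLinearEquiv, θ), fun a x => e.injective ?_, fun x y => ?_⟩, rfl⟩
    · change e (g _) = e (θ a • g x)
      ext i
      simp [hg, ht]
    · change B (g x) (g y) = θ _
      rw [← he, ← he, hg, hg]
      simp only [stdForm_apply, ht, map_sum, map_mul]
      exact Finset.sum_congr rfl fun i _ => by rw [H.conj.apply, H.conj.apply, map_pow]
  rw [← Subgroup.card_mul_index s.ker, Subgroup.index_ker, MonoidHom.range_eq_top.2 hs, hker,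
    Subgroup.card_top, mul_comm, Nat.card_congr (MonoidHom.ofInjective toGam_injective).toEquiv]

omit [FiniteDimensional F V] in
theorem iso_vec {e f w : V} {c : F} (he : B e e = 0) (hf : B f f = 0) (hef : B e f = 1)
    (hew : B e w = 0) (hfw : B f w = 0) (hc : c + σ c = B w w) : Iso B (f + w - c • e) := by
  have h1 := H.eq_one_symm hef
  have h2 := H.eq_zero_symm hew
  have h3 := H.eq_zero_symm hfw
  refine Iso.of_ne (w := e) ?_ (by simp [he, hef, hew])
  simp only [map_add, map_sub, LinearMap.add_apply, LinearMap.sub_apply, LinearMap.map_smulₛₗ,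
    LinearMap.smul_apply, smul_eq_mul, RingHom.id_apply, he, hf, hef, hew, hfw, h1, h2, h3]
  linear_combination -hc

theorem exists_hyp (h2 : 2 ≤ finrank F V) : ∃ e f : V, B e e = 0 ∧ B f f = 0 ∧ B e f = 1 := by
  obtain ⟨e, -, he0, he⟩ := H.exists_isotropic H.nd_top (by rwa [finrank_top])
  obtain ⟨f, -, hf, hef⟩ := H.exists_partner' H.nd_top trivial he0 he
  exact ⟨e, f, he, hf, hef⟩

theorem ker_pg (h3 : 3 ≤ finrank F V) : (pg B).ker = (Subgroup.center (UG B)).map (toGam B) := by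
  rw [← ker_pm H (by omega)]
  refine le_antisymm (fun γ hγ => ?_) (by rintro _ ⟨g, hg, rfl⟩; exact hg)
  suffices h : γ.1.2 = 1 by
    obtain ⟨g, rfl⟩ := mem_range_toGam.2 h
    exact ⟨g, hγ, rfl⟩
  have key : ∀ u, Iso B u → ∃ a : F, γ.1.1 u = a • u := fun u hu =>
    (Sends.one hu).unique (MonoidHom.mem_ker.1 hγ ▸ sends_pg γ hu)
  obtain ⟨e, f, he, hf, hef⟩ := exists_hyp H (by omega)
  obtain ⟨v, -, hv, hev, hfv⟩ := H.exists_unit_perp_pair H.nd_top (by rwa [finrank_top])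
    trivial trivial he (hef ▸ one_ne_zero)
  obtain ⟨a, ha⟩ := key e (Iso.of_ne' he (hef ▸ one_ne_zero))
  obtain ⟨b, hb⟩ := key f (Iso.of_ne hf (hef ▸ one_ne_zero))
  have h1 := γ.2.2 v e
  have h2 := γ.2.2 v f
  have h4 := γ.2.2 e f
  simp only [ha, hb, hef, H.eq_zero_symm hev, H.eq_zero_symm hfv, map_zero, map_one,
    LinearMap.map_smulₛₗ, LinearMap.smul_apply, smul_eq_mul, RingHom.id_apply] at h1 h2 h4
  have ha0 : a ≠ 0 := by rintro rfl; simp at h4
  have hb0 : b ≠ 0 := by rintro rfl; simp at h4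
  have key2 : ∀ t, γ.1.2 t * σ a = t * B (γ.1.1 v) v := by
    intro t
    obtain ⟨c, hc⟩ := H.conj.exists_trace (H.conj_self (t • v))
    obtain ⟨l, hl⟩ := key _ (iso_vec H he hf hef (w := t • v) (by simp [hev]) (by simp [hfv]) hc)
    have h5 := γ.2.2 e (f + t • v - c • e)
    have h6 := γ.2.2 v (f + t • v - c • e)
    simp only [ha, hl, map_add, map_sub, he, hef, hev, hv, H.eq_zero_symm hev, H.eq_zero_symm hfv,
      (mul_eq_zero.1 h1).resolve_left ha0, (mul_eq_zero.1 h2).resolve_left hb0,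
      LinearMap.map_smulₛₗ, LinearMap.smul_apply, smul_eq_mul, RingHom.id_apply, mul_zero,
      add_zero, zero_add, sub_zero, mul_one, map_one] at h5 h6
    linear_combination (-σ a) * h6 + t * B (γ.1.1 v) v * h5
  ext t
  have h7 := key2 1
  rw [map_one, one_mul, one_mul] at h7
  exact mul_right_cancel₀ ((map_ne_zero σ).2 ha0) ((key2 t).trans (by rw [← h7]; rfl))

theorem card_range_pg (h3 : 3 ≤ finrank F V) : Nat.card (pg B).range =
    Nat.gcd (finrank F V) (q + 1) * Nat.card (RingAut F) * Nat.card (PS B) := by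
  have h1 := Subgroup.card_mul_index (pg B).ker
  rw [Subgroup.index_ker, ker_pg H h3, Subgroup.card_map_of_injective toGam_injective,
    H.card_center_UG (by omega), card_Gam H, H.card_UG, ← H.card_SUG (by omega),
    ← card_PS H (by omega)] at h1
  apply Nat.eq_of_mul_eq_mul_left (show 0 < q + 1 by omega)
  rw [h1]
  ring

/-- The semilinear isometries normalise the projective special unitary group. -/
theorem conj_mem_PS (hn : ¬ (finrank F V = 3 ∧ q = 2)) (γ : Gam B) {s : Equiv.Perm (Pt B)}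
    (hs : s ∈ PS B) : pg B γ * s * (pg B γ)⁻¹ ∈ PS B := by
  obtain ⟨⟨g, hgU⟩, hg, rfl⟩ := mem_PS.1 hs
  have hg' : g ∈ tvG B := H.tvG_eq_SUG hn ▸ hg
  clear hg hs
  induction hg' using Subgroup.closure_induction with
  | mem t ht =>
    obtain ⟨p, c, hp, hc, ht⟩ := ht
    have hp' : B (γ.1.1 p) (γ.1.1 p) = 0 := by rw [γ.2.2, hp, map_zero]
    obtain ⟨t', ht'⟩ := exists_isTv' hp' (γ.1.2 c)
    have h1 : t' ∈ SUG B := ht'.mem_SUG H hp' (by
      rw [H.conj.apply, ← map_pow, ← map_add, ← H.conj.apply, hc, map_zero])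
    have h2 : γ * toGam B ⟨t, hgU⟩ = toGam B ⟨t', SUG_le_UG h1⟩ * γ := by
      refine Subtype.ext (Prod.ext (LinearEquiv.ext fun x => ?_) ((mul_one _).trans (one_mul _).symm))
      change γ.1.1 (t x) = t' (γ.1.1 x)
      rw [ht, ht', map_add, γ.2.1, γ.2.2, map_mul]
    refine mem_PS.2 ⟨⟨t', SUG_le_UG h1⟩, h1, ?_⟩
    rw [eq_mul_inv_iff_mul_eq]
    exact (map_mul _ _ _).symm.trans ((congrArg (pg B) h2).symm.trans (map_mul _ _ _))
  | one =>
    have h2 : pm B ⟨1, hgU⟩ = 1 := map_one _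
    rw [h2]
    simp
  | mul x y hx hy ihx ihy =>
    have h1 := (PS B).mul_mem (ihx (SUG_le_UG (H.tvG_le_SUG hx))) (ihy (SUG_le_UG (H.tvG_le_SUG hy)))
    have h2 : pm B ⟨x * y, hgU⟩ = pm B ⟨x, SUG_le_UG (H.tvG_le_SUG hx)⟩ *
      pm B ⟨y, SUG_le_UG (H.tvG_le_SUG hy)⟩ := by rw [← map_mul]; rfl
    rw [h2]
    simpa [mul_assoc] using h1
  | inv x hx ihx =>
    have h1 := (PS B).inv_mem (ihx (SUG_le_UG (H.tvG_le_SUG hx)))
    have h2 : pm B ⟨x⁻¹, hgU⟩ = (pm B ⟨x, SUG_le_UG (H.tvG_le_SUG hx)⟩)⁻¹ := by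
      rw [← map_inv]; rfl
    rw [h2]
    simpa [mul_assoc] using h1

theorem range_pg_le_permNorm (hn : ¬ (finrank F V = 3 ∧ q = 2)) :
    (pg B).range ≤ AutPerm.permNorm (PS B) (Pt B) := by
  rintro _ ⟨γ, rfl⟩
  have := finite_Pt H
  refine AutPerm.mem_permNorm_of_forall _ fun s => ⟨⟨_, conj_mem_PS H hn γ s.2⟩, fun x => ?_⟩
  simp [Subgroup.smul_def]

/-- An isotropic vector orthogonal to all isotropic vectors of `L^⊥` lies in `L`. -/
theorem mem_of_forall_orth {L : Submodule F V} {u : V} (hu : B u u = 0)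
    (h1 : ∀ x ∈ L, B x u = 0) (h : ∀ z, Iso B z → (∀ x ∈ L, B x z = 0) → B u z = 0) : u ∈ L := by
  by_contra hc
  obtain ⟨s, -, hs, hus, hs'⟩ := H.exists_partner H.nd_top le_top trivial hc hu h1
  exact one_ne_zero (hus ▸ h s (Iso.of_ne hs (hus ▸ one_ne_zero)) hs')

theorem exists_smul_of_forall_orth {e u : V} (he : Iso B e) (hu : B u u = 0)
    (h : ∀ z, Iso B z → B e z = 0 → B u z = 0) : ∃ a : F, u = a • e := by
  have := mem_of_forall_orth H (L := F ∙ e) hu
    (mem_perp_span_singleton.2 (H.eq_zero_symm (h e he he.2)))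
    fun z hz hz' => h z hz (mem_perp_span_singleton.1 hz')
  obtain ⟨a, ha⟩ := Submodule.mem_span_singleton.1 this
  exact ⟨a, ha.symm⟩

theorem not_dvd_card_Pt (h2 : 2 ≤ finrank F V) {p : ℕ} (hp : p.Prime) (hpq : p ∣ q) :
    ¬ p ∣ Nat.card (Pt B) := by
  classical
  intro hd
  have := H.finite
  choose r hr hrx using fun x : Pt B => exists_pt x
  have h1 : Nat.card (Pt B × Fˣ) = Nat.card {v : V // Iso B v} := by
    refine Nat.card_eq_of_bijective (fun x => ⟨(x.2 : F) • r x.1, (hr x.1).smul x.2.ne_zero⟩)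
      ⟨?_, fun v => ?_⟩
    · rintro ⟨x, a⟩ ⟨y, b⟩ h
      have h' : (a : F) • r x = (b : F) • r y := congrArg Subtype.val h
      obtain rfl : x = y := by
        rw [hrx x, hrx y, pt_eq_iff]
        exact ⟨(b : F)⁻¹ * a, by rw [mul_smul, h', inv_smul_smul₀ b.ne_zero]⟩
      rw [Units.ext (smul_left_injective F (hr x).1 h')]
    · obtain ⟨a, ha⟩ := pt_eq_iff.1 (hrx (pt v.2)).symm
      exact ⟨(pt v.2, Units.mk0 a (ha ▸ v.2).ne_zero_of_smul), Subtype.ext ha.symm⟩
  have h3 : Nat.card {v : V // B v v = 0} = Nat.card {v : V // Iso B v} + 1 := by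
    rw [← Finite.card_option]
    refine Nat.card_congr (Equiv.ofBijective (fun v => v.elim ⟨0, by simp⟩ fun v => ⟨v.1, v.2.2⟩)
      ⟨?_, fun v => ?_⟩).symm
    · rintro (_ | v) (_ | w) h
      · rfl
      · exact absurd (congrArg Subtype.val h).symm w.2.1
      · exact absurd (congrArg Subtype.val h) v.2.1
      · exact congrArg some (Subtype.ext (by simpa using h))
    · by_cases h0 : v.1 = 0
      · exact ⟨none, Subtype.ext h0.symm⟩
      · exact ⟨some ⟨v.1, h0, v.2⟩, rfl⟩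
  have h4 := (H.conj.normCount_formula (finrank F V)).1
  rw [← H.card_norm_eq, h3, ← h1, Nat.card_prod] at h4
  obtain ⟨m, hm⟩ := Nat.exists_eq_add_of_le h2
  obtain ⟨k, hk⟩ := hd
  obtain ⟨q', hq'⟩ := hpq
  have hq0 : (q : ℤ) ≠ 0 := by exact_mod_cast H.conj.q_ne_zero
  have h5 : (p : ℤ) ∣ 1 := by
    refine ⟨q' * (q ^ (2 * m + 2) + (q - 1) * (-q) ^ m) - k * Nat.card Fˣ, ?_⟩
    apply mul_left_cancel₀ hq0
    have h6 : (q : ℤ) = p * q' := by exact_mod_cast hq'
    rw [hm, hk] at h4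
    push_cast at h4
    linear_combination h4 + (q * (q ^ (2 * m + 2) + (q - 1) * (-q) ^ m)) * h6
  exact hp.one_lt.ne' (Nat.dvd_one.1 (by exact_mod_cast h5))

end CL.AutU
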