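import Cfsg.Agent.AutU.Points

/-!
# Automorphisms of the projective special unitary group permute the isotropic points
-/

set_option autoImplicit false

namespace CL.AutU

open Module CL.Herm
open scoped Pointwise

variable {F V : Type*} [Field F] [AddCommGroup V] [Module F V] {σ : F →+* F} {q : ℕ}
  {B : V →ₛₗ[σ] V →ₗ[F] F}

/-- `s` is induced by a transvection with centre `e`. -/
def InT (e : V) (s : Equiv.Perm (Pt B)) : Prop :=
  ∃ (c : F) (g : UG B), c + σ c = 0 ∧ IsTv B e c g.1 ∧ pm B g = s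

/-- `s` is induced by an Eichler transformation with centre `e`. -/
def InQ (e : V) (s : Equiv.Perm (Pt B)) : Prop :=
  ∃ (w : V) (c : F) (g : UG B), IsEich B e w c g.1 ∧ pm B g = s

theorem eq_one_of_pow_char_pow (p : ℕ) [Fact p.Prime] [CharP F p] {a : F} {k : ℕ}
    (h : a ^ p ^ k = 1) : a = 1 :=
  (iterateFrobenius F p k).injective (by rw [iterateFrobenius_def, h, map_one])

theorem pow_apply_of_eq_smul {g : UG B} {u : V} {a : F} (h : g.1 u = a • u) (n : ℕ) :
    (g ^ n).1 u = a ^ n • u := by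
  induction n with
  | zero => simp
  | succ n ih => rw [pow_succ, Subgroup.coe_mul, LinearEquiv.mul_apply, h, map_smul, ih, smul_smul,
      pow_succ']

theorem InT.inQ {e : V} (he : B e e = 0) {s : Equiv.Perm (Pt B)} (h : InT e s) : InQ e s := by
  obtain ⟨c, g, hc, hg, rfl⟩ := h
  exact ⟨0, -c, g, hg.isEich he hc, rfl⟩

theorem InT.sends {e y : V} {s : Equiv.Perm (Pt B)} (h : InT e s) (hy : Iso B y)
    (hey : B e y = 0) : Sends s y y := by
  obtain ⟨c, g, -, hg, rfl⟩ := h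
  exact sends_pm_self hy (hg.apply_of_orth hey)

theorem InT.orth_of_sends {e y : V} (he : Iso B e) {s : Equiv.Perm (Pt B)} (h : InT e s)
    (h1 : s ≠ 1) (hy : Sends s y y) : B e y = 0 := by
  obtain ⟨c, g, -, hg, rfl⟩ := h
  by_contra h0
  obtain ⟨a, -, ha⟩ := hy.pm_self
  have h2 := congrArg (B e) ha
  rw [hg, map_add, map_smul, map_smul, he.2, smul_zero, add_zero, smul_eq_mul] at h2
  have h3 : a = 1 := mul_right_cancel₀ h0 (h2.symm.trans (one_mul _).symm)
  rw [hg, h3, one_smul, add_eq_left, smul_eq_zero, mul_eq_zero] at ha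
  have hc : c = 0 := (ha.resolve_right he.1).resolve_right h0
  refine h1 ?_
  rw [show g = 1 from Subtype.ext (hg.unique (hc ▸ IsTv.one e)), map_one]

variable (H : IsHerm q B)
include H

theorem InT.conj {e v : V} {s : Equiv.Perm (Pt B)} (h : InT e s) {k : UG B}
    (hk : Sends (pm B k) e v) : InT v (pm B k * s * (pm B k)⁻¹) := by
  obtain ⟨c, g, hc, hg, rfl⟩ := h
  obtain ⟨a, -, ha⟩ := hk.unique' (sends_pm k hk.left)
  have h1 := hg.conj k.2
  rw [ha] at h1
  refine ⟨_, k * g * k⁻¹, ?_, h1.of_smul, by simp⟩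
  rw [map_mul, H.conj.conj_norm]
  linear_combination (a * σ a) * hc

theorem InQ.conj {e v : V} {s : Equiv.Perm (Pt B)} (h : InQ e s) {k : UG B}
    (hk : Sends (pm B k) e v) : InQ v (pm B k * s * (pm B k)⁻¹) := by
  obtain ⟨w, c, g, hg, rfl⟩ := h
  obtain ⟨a, ha0, ha⟩ := hk.unique' (sends_pm k hk.left)
  have h1 := hg.conj k.2
  rw [ha] at h1
  exact ⟨_, _, k * g * k⁻¹, h1.of_smul H ha0, by simp⟩

theorem InQ.sends {e : V} (he : Iso B e) {s : Equiv.Perm (Pt B)} (h : InQ e s) : Sends s e e := by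
  obtain ⟨w, c, g, hg, rfl⟩ := h
  exact sends_pm_self he (hg.apply_self H)

theorem InQ.pow_eq_one (p : ℕ) [CharP F p] {e : V} {s : Equiv.Perm (Pt B)} (h : InQ e s) :
    s ^ p ^ 2 = 1 := by
  obtain ⟨w, c, g, hg, rfl⟩ := h
  have h1 : ∀ n : ℕ, ∃ c', IsEich B e ((n : F) • w) c' (g ^ n).1 := by
    intro n
    induction n with
    | zero => exact ⟨0, by simpa using IsEich.one hg.iso⟩
    | succ n ih =>
      obtain ⟨c', ih⟩ := ih
      exact ⟨_, by simpa [pow_succ, add_smul] using ih.mul H hg⟩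
  obtain ⟨c', h2⟩ := h1 p
  rw [CharP.cast_eq_zero, zero_smul] at h2
  have h3 : ∀ n : ℕ, IsEich B e 0 (n * c') ((g ^ p) ^ n).1 := by
    intro n
    induction n with
    | zero => simpa using IsEich.one hg.iso
    | succ n ih => simpa [pow_succ, add_mul] using ih.mul H h2
  have h4 := h3 p
  rw [CharP.cast_eq_zero, zero_mul, ← pow_mul, ← sq] at h4
  rw [← map_pow, show g ^ p ^ 2 = 1 from Subtype.ext (h4.unique (IsEich.one hg.iso)), map_one]

omit H in
theorem InQ.orth {e : V} {s : Equiv.Perm (Pt B)} (h : InQ e s) {y y' z : V} (hy : Sends s y y')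
    (hey : B e y = 0) (hez : B e z = 0) (hyz : B y z = 0) : B y' z = 0 := by
  obtain ⟨w, c, g, hg, rfl⟩ := h
  obtain ⟨a, -, rfl⟩ := (sends_pm_iff hy.left).1 hy
  simp [hg.eq, hey, hez, hyz]

variable [FiniteDimensional F V]

theorem InQ.mem_PS {e : V} {s : Equiv.Perm (Pt B)} (h : InQ e s) : s ∈ PS B := by
  obtain ⟨w, c, g, hg, rfl⟩ := h
  exact pm_mem_PS (hg.mem_SUG H)

theorem exists_inT {e : V} (he : Iso B e) : ∃ s : Equiv.Perm (Pt B), InT e s ∧ s ≠ 1 := by
  obtain ⟨δ, h0, hδ⟩ := H.conj.exists_skew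
  have hδ' : δ + σ δ = 0 := by rw [hδ, add_neg_cancel]
  obtain ⟨t, ht⟩ := exists_isTv' he.2 δ
  refine ⟨_, ⟨δ, ⟨t, (ht.mem_SUG H he.2 hδ').1⟩, hδ', ht, rfl⟩, fun h => ?_⟩
  obtain ⟨f, -, hf, hef⟩ := H.exists_partner' H.nd_top trivial he.1 he.2
  obtain ⟨a, -, ha⟩ := (h ▸ Sends.one (Iso.of_ne hf (hef ▸ one_ne_zero)) :
    Sends (pm B _) f f).pm_self
  have h2 := congrArg (B f) ha
  change B f (t f) = _ at h2
  rw [ht] at h2
  simp [hf, hef, H.eq_one_symm hef, h0] at h2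

/-- An isometry fixing `e` and acting trivially on `e^⊥ / e` is an Eichler transformation. -/
theorem isEich_of_fix {e : V} (he : Iso B e) {g : UG B} (h1 : g.1 e = e)
    (h2 : ∀ w, B e w = 0 → ∃ a : F, g.1 w = w + a • e) : ∃ w c, IsEich B e w c g.1 := by
  obtain ⟨f, -, hf, hef⟩ := H.exists_partner' H.nd_top trivial he.1 he.2
  obtain ⟨c, E, hE, hEf⟩ := H.exists_isEich_apply (u := f) (v := g.1 f) he.2 (hef ▸ one_ne_zero)
    (by rw [← g.2 e f, h1]) (g.2 f f)
  suffices g.1 = E by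
    generalize (B e f)⁻¹ • (g.1 f - f) = w at hE
    exact ⟨w, c, this ▸ hE⟩
  ext x
  have h3 : B e (x - B e x • f) = 0 := by simp [hef]
  obtain ⟨a, ha⟩ := h2 _ h3
  have h4 := hE.eq (x - B e x • f)
  rw [h3, zero_smul, mul_zero, zero_smul, add_zero, sub_zero] at h4
  have h5 : B (g.1 f) (g.1 (x - B e x • f)) = B (g.1 f) (E (x - B e x • f)) := by
    rw [g.2, ← hEf, hE.mem_UG H]
  have h6 : B (g.1 f) e = 1 := by rw [← H.eq_one_symm hef, ← g.2 f e, h1]
  rw [ha, h4, map_add, map_sub _ (x - _), map_smul, map_smul, h6] at h5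
  have h7 : g.1 (x - B e x • f) = E (x - B e x • f) := by
    rw [ha, h4, sub_eq_add_neg (x - _), ← neg_smul]
    congr 2
    simp only [smul_eq_mul, mul_one] at h5
    linear_combination h5
  rw [map_sub, map_sub, map_smul, map_smul, hEf] at h7
  exact sub_left_injective h7

variable (p : ℕ) [Fact p.Prime] [CharP F p]

/-- A `p`-element fixing the point of `e` is induced by a `p`-element fixing `e`. -/
theorem exists_fix_of_pow (h2 : 2 ≤ finrank F V) {e : V} {g : UG B} {k : ℕ}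
    (hk : pm B g ^ p ^ k = 1) (he : Sends (pm B g) e e) :
    ∃ g' : UG B, pm B g' = pm B g ∧ g'.1 e = e ∧ g' ^ p ^ k = 1 := by
  have : Nontrivial V := ⟨⟨e, 0, he.left.1⟩⟩
  obtain ⟨a, ha0, ha⟩ := he.pm_self
  obtain ⟨u, hu⟩ := (pm_eq_one_iff H h2).1 ((map_pow _ _ _).trans hk)
  have h3 : (u : F) * σ u = 1 :=
    H.conj.mem_rootsOfUnity.1 (H.scalarAut_mem_UG.1 (hu ▸ (g ^ p ^ k).2))
  have h4 := pow_apply_of_eq_smul ha (p ^ k)
  rw [hu, scalarAut_apply] at h4
  rw [smul_left_injective F he.left.1 h4, map_pow, ← mul_pow] at h3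
  have h5 := eq_one_of_pow_char_pow p h3
  have h6 : scalarAut V (Units.mk0 (σ a) ((map_ne_zero σ).2 ha0)) ∈ UG B :=
    H.scalarAut_mem_UG.2 (H.conj.mem_rootsOfUnity.2 (by
      rw [Units.val_mk0, H.conj.invol, mul_comm, h5]))
  have h7 : pm B (⟨_, h6⟩ * g) = pm B g := by
    rw [map_mul, (pm_eq_one_iff H h2).2 ⟨_, rfl⟩, one_mul]
  have h8 : (⟨_, h6⟩ * g : UG B).1 e = e := by
    rw [Subgroup.coe_mul, LinearEquiv.mul_apply, ha, scalarAut_apply, smul_smul, Units.val_mk0,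
      mul_comm, h5, one_smul]
  refine ⟨_, h7, h8, eq_of_pm_eq H h2 (by rw [map_pow, h7, hk, map_one]) he.left.1 ?_⟩
  simpa using pow_apply_of_eq_smul (h8.trans (one_smul F e).symm) (p ^ k)

omit [Fact p.Prime] [CharP F p] in
/-- The Eichler transformations with centre `e` as a subgroup of `PS B`. -/
def QS {e : V} (he : B e e = 0) : Subgroup (PS B) where
  carrier := {s | InQ e s.1}
  mul_mem' := fun ⟨_, _, g, hg, h⟩ ⟨_, _, g', hg', h'⟩ =>
    ⟨_, _, g * g', hg.mul H hg', by rw [map_mul, h, h']; rfl⟩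
  one_mem' := ⟨0, 0, 1, IsEich.one he, map_one _⟩
  inv_mem' := fun ⟨_, _, g, hg, h⟩ => ⟨_, _, g⁻¹, hg.inv H, by rw [map_inv, h]; rfl⟩

omit [Fact p.Prime] in
theorem QS_le_sylow {e : V} (S : Sylow p (PS B)) (he : Iso B e) (hS : ∀ s ∈ S, Sends s.1 e e) :
    QS H he.2 ≤ S := by
  have hQ : IsPGroup p (QS H he.2) := fun s =>
    ⟨2, Subtype.ext (Subtype.ext (InQ.pow_eq_one H p s.2))⟩
  have := finite_Pt H
  have h1 : (S : Subgroup (PS B)) ≤ Subgroup.normalizer (QS H he.2) := fun s hs =>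
    Subgroup.mem_normalizer_fintype fun n hn => by
      obtain ⟨g, -, hg⟩ := mem_PS.1 s.2
      have := InQ.conj H hn (hg ▸ hS s hs)
      rwa [hg] at this
  exact le_sup_right.trans (S.3 (S.2.to_sup_of_normal_right' hQ h1) le_sup_left).le

/-- The centre of a Sylow `p`-subgroup is a group of transvections. -/
theorem inT_iff (h2 : 2 ≤ finrank F V) {e : V} (S : Sylow p (PS B)) (he : Iso B e)
    (hS : ∀ s ∈ S, Sends s.1 e e) (t : PS B) :
    InT e t.1 ↔ t ∈ S ∧ ∀ s ∈ S, s * t = t * s := by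
  have hfix : ∀ s ∈ S, ∃ g : UG B, pm B g = s.1 ∧ g.1 e = e := by
    intro s hs
    obtain ⟨g, -, hg⟩ := mem_PS.1 s.2
    obtain ⟨k, hk⟩ := S.2 ⟨s, hs⟩
    obtain ⟨g', h1, h3, -⟩ := exists_fix_of_pow H p h2 (g := g) (k := k)
      (hg ▸ congrArg (fun x => x.1.1) hk) (hg ▸ hS s hs)
    exact ⟨g', h1.trans hg, h3⟩
  constructor
  · intro ht
    refine ⟨QS_le_sylow H p S he hS (ht.inQ he.2), fun s hs => Subtype.ext ?_⟩
    obtain ⟨g, hg, hge⟩ := hfix s hs
    obtain ⟨c, T, -, hT, hT'⟩ := ht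
    have h1 := hT.conj g.2
    rw [hge] at h1
    have h3 : g * T = T * g := mul_inv_eq_iff_eq_mul.1 (Subtype.ext (h1.unique hT))
    rw [Subgroup.coe_mul, Subgroup.coe_mul, ← hg, ← hT', ← map_mul, h3, map_mul]
  · rintro ⟨ht, hc⟩
    obtain ⟨g, hg, hge⟩ := hfix t ht
    obtain ⟨f, -, hf, hef⟩ := H.exists_partner' H.nd_top trivial he.1 he.2
    have hcomm : ∀ w c E, IsEich B e w c E → g.1 * E = E * g.1 := by
      intro w c E hE
      have h1 : InQ e (pm B ⟨E, hE.mem_UG H⟩) := ⟨w, c, _, hE, rfl⟩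
      have h3 := congrArg Subtype.val (hc ⟨_, h1.mem_PS H⟩ (QS_le_sylow H p S he hS h1))
      rw [Subgroup.coe_mul, Subgroup.coe_mul, ← hg, ← map_mul, ← map_mul] at h3
      refine congrArg Subtype.val (eq_of_pm_eq H h2 h3.symm he.1 ?_)
      simp [hge, hE.apply_self H]
    obtain ⟨w₀, c₀, h₀⟩ := isEich_of_fix H he hge fun w hw => by
      obtain ⟨c, E, hE⟩ := H.exists_isEich' he.2 hw
      have h1 := hE.conj g.2
      rw [hge, hcomm _ _ _ hE, mul_inv_cancel_right] at h1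
      have h3 := (h1.eq f).symm.trans (hE.eq f)
      rw [hef, one_smul, one_smul] at h3
      exact ⟨B (g.1 w) f - B w f, by linear_combination (norm := module) h3⟩
    have h4 : ∀ w, B e w = 0 → B w w₀ = B w₀ w := by
      intro w hw
      obtain ⟨c, E, hE⟩ := H.exists_isEich' he.2 hw
      have h1 := h₀.commutator H hE f
      rw [hcomm _ _ _ hE, mul_inv_cancel_right, mul_inv_cancel, hef, mul_one] at h1
      exact sub_eq_zero.1 ((smul_eq_zero.1 (left_eq_add.1 h1)).resolve_right he.1)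
    have h5 : ∀ w, B e w = 0 → B w₀ w = 0 := by
      intro w hw
      obtain ⟨a, ha⟩ := H.conj.exists_ne
      have h1 := h4 (a • w) (by simp [hw])
      simp only [LinearMap.map_smulₛₗ, LinearMap.smul_apply, smul_eq_mul, RingHom.id_apply,
        h4 w hw] at h1
      exact (mul_eq_zero.1 (show (σ a - a) * B w₀ w = 0 by linear_combination h1)).resolve_left
        (sub_ne_zero.2 ha)
    obtain ⟨a, rfl⟩ := exists_smul_of_forall_orth H he (h5 _ h₀.orth) fun z _ hz => h5 z hz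
    refine ⟨a - σ a - c₀, g, ?_, fun x => ?_, hg⟩
    · have := h₀.tr
      rw [h5 _ h₀.orth] at this
      rw [map_sub, map_sub, H.conj.invol]
      linear_combination -this
    · rw [h₀.eq]
      simp only [LinearMap.map_smulₛₗ, LinearMap.smul_apply, smul_eq_mul]
      module

theorem exists_inT_iff (h2 : 2 ≤ finrank F V) (hpq : p ∣ q) (α : MulAut (PS B)) :
    ∃ e e', Iso B e ∧ Iso B e' ∧ ∀ t : PS B, InT e t.1 ↔ InT e' (α t).1 := by
  have key : ∀ S : Sylow p (PS B), ∃ e, Iso B e ∧ ∀ s ∈ S, Sends s.1 e e := by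
    intro S
    obtain ⟨x, hx⟩ := S.2.nonempty_fixed_point_of_prime_not_dvd_card (Pt B)
      (not_dvd_card_Pt H h2 Fact.out hpq)
    obtain ⟨e, he, rfl⟩ := exists_pt x
    exact ⟨e, he, fun s hs => ⟨he, he, hx ⟨s, hs⟩⟩⟩
  obtain ⟨S⟩ := (Sylow.nonempty : Nonempty (Sylow p (PS B)))
  obtain ⟨e, he, hS⟩ := key S
  obtain ⟨e', he', hS'⟩ := key (α • S)
  have hmem : ∀ s, α s ∈ α • S ↔ s ∈ S := fun s =>
    Subgroup.smul_mem_pointwise_smul_iff (a := α) (S := (S : Subgroup (PS B)))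
  refine ⟨e, e', he, he', fun t => ?_⟩
  rw [inT_iff H p h2 S he hS, inT_iff H p h2 _ he' hS', hmem]
  refine and_congr_right fun _ => Iff.trans ?_ α.surjective.forall.symm
  simp only [hmem, ← map_mul, α.injective.eq_iff]

omit [Fact p.Prime] [CharP F p] in
theorem sends_iff_conj {e : V} (he : Iso B e) (s : PS B) :
    Sends s.1 e e ↔ ∀ t : PS B, InT e t.1 → InT e (s * t * s⁻¹).1 := by
  obtain ⟨g, -, hg⟩ := mem_PS.1 s.2
  refine ⟨fun h t ht => ?_, fun h => ?_⟩
  · have := InT.conj H ht (hg ▸ h)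
    rwa [hg] at this
  · obtain ⟨t, ht, h1⟩ := exists_inT H he
    have h2 := h ⟨t, (ht.inQ he.2).mem_PS H⟩ ht
    have h3 := InT.conj H ht (sends_pm g he)
    rw [hg] at h3
    have h4 : s.1 * t * s.1⁻¹ ≠ 1 := by simpa using h1
    obtain ⟨a, ha⟩ := exists_smul_of_forall_orth H he (sends_pm g he).right.2 fun z hz hz' =>
      h3.orth_of_sends (sends_pm g he).right h4 (h2.sends hz hz')
    have h5 := sends_pm g he
    rw [ha, hg] at h5
    simpa [h5.right.ne_zero_of_smul] using h5.smul_right (inv_ne_zero h5.right.ne_zero_of_smul)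

omit [Fact p.Prime] [CharP F p] in
theorem exists_PS_sends (h3 : 3 ≤ finrank F V) {u v : V} (hu : Iso B u) (hv : Iso B v) :
    ∃ s ∈ PS B, Sends s u v := by
  obtain ⟨g, hg, rfl⟩ := H.exists_eichG_apply_isotropic H.nd_top (by rwa [finrank_top])
    trivial trivial hu.1 hv.1 hu.2 hv.2
  exact ⟨_, pm_mem_PS (g := ⟨g, (H.eichG_le_SUG _ hg).1⟩) (H.eichG_le_SUG _ hg), sends_pm _ hu⟩

omit [Fact p.Prime] [CharP F p] in
theorem isPretransitive (h3 : 3 ≤ finrank F V) : MulAction.IsPretransitive (PS B) (Pt B) where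
  exists_smul_eq x y := by
    obtain ⟨u, hu, rfl⟩ := exists_pt x
    obtain ⟨v, hv, rfl⟩ := exists_pt y
    obtain ⟨s, hs, h⟩ := exists_PS_sends H h3 hu hv
    exact ⟨⟨s, hs⟩, h.eq hu hv⟩

omit [Fact p.Prime] [CharP F p] in
theorem eq_of_fix (x y : Pt B) (h : ∀ g : PS B, g • x = x → g • y = y) : x = y := by
  obtain ⟨u, hu, rfl⟩ := exists_pt x
  obtain ⟨v, hv, rfl⟩ := exists_pt y
  refine pt_eq_iff.2 (exists_smul_of_forall_orth H hu hv.2 fun z hz hz' => ?_)
  obtain ⟨t, ht, h1⟩ := exists_inT H hz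
  exact H.eq_zero_symm (ht.orth_of_sends hz h1 ⟨hv, hv, h ⟨t, (ht.inQ hz.2).mem_PS H⟩
    ((ht.sends hu (H.eq_zero_symm hz')).eq hu hu)⟩)

theorem exists_stab_iff (h2 : 2 ≤ finrank F V) (hpq : p ∣ q) (α : MulAut (PS B)) :
    ∃ e e', ∃ (he : Iso B e) (he' : Iso B e'), (∀ t : PS B, InT e t.1 ↔ InT e' (α t).1) ∧
      ∀ s : PS B, s • pt he = pt he ↔ α s • pt he' = pt he' := by
  obtain ⟨e, e', he, he', h⟩ := exists_inT_iff H p h2 hpq α
  refine ⟨e, e', he, he', h, fun s => ?_⟩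
  have h1 : ∀ {u} (hu : Iso B u) (s : PS B), s • pt hu = pt hu ↔ Sends s.1 u u := fun hu s =>
    ⟨fun h => ⟨hu, hu, h⟩, fun h => h.eq hu hu⟩
  rw [h1, h1, sends_iff_conj H he, sends_iff_conj H he']
  refine Iff.trans ?_ α.surjective.forall.symm
  simp only [h, map_mul, map_inv]

theorem permAut_eq_top (h3 : 3 ≤ finrank F V) (hpq : p ∣ q) :
    AutPerm.permAut (PS B) (Pt B) = ⊤ := by
  refine eq_top_iff.2 fun α _ => ?_
  have := isPretransitive H h3
  obtain ⟨e, e', he, he', -, h⟩ := exists_stab_iff H p (by omega) hpq α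
  obtain ⟨π, -, hπ⟩ := AutPerm.exists_equiv_of_stabilizer α _ _ h
  exact ⟨π, hπ⟩

omit H [FiniteDimensional F V] in
theorem compat_eq {α : MulAut (PS B)} {π : Equiv.Perm (Pt B)} (h : AutPerm.Compat α π)
    (s : PS B) : (α s).1 = π * s.1 * π⁻¹ := by
  rw [eq_mul_inv_iff_mul_eq]
  exact Equiv.ext fun x => (h s x).symm

omit H [FiniteDimensional F V] in
theorem conj_mem_of_permNorm {π s : Equiv.Perm (Pt B)} (hπ : π ∈ AutPerm.permNorm (PS B) (Pt B))
    (hs : s ∈ PS B) : π * s * π⁻¹ ∈ PS B := by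
  obtain ⟨α, h⟩ := hπ
  exact compat_eq h ⟨s, hs⟩ ▸ (α ⟨s, hs⟩).2

theorem InT.conj_of_permNorm (h3 : 3 ≤ finrank F V) (hpq : p ∣ q) {π t : Equiv.Perm (Pt B)}
    (hπ : π ∈ AutPerm.permNorm (PS B) (Pt B)) {u v : V} (huv : Sends π u v) (ht : InT u t) :
    InT v (π * t * π⁻¹) := by
  obtain ⟨α, hα⟩ := hπ
  obtain ⟨e, e', he, he', h1, h2⟩ := exists_stab_iff H p (by omega) hpq α
  have h4 : pt he = π⁻¹ (pt he') := eq_of_fix H _ _ fun s hs => by
    apply π.injective
    rw [hα]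
    simpa using (h2 s).1 hs
  have h5 : Sends π e e' := ⟨he, he', by simp [h4]⟩
  obtain ⟨s, hs, hs'⟩ := exists_PS_sends H h3 huv.left he
  obtain ⟨g, hg, rfl⟩ := mem_PS.1 hs
  have h6 := InT.conj H ht hs'
  have h7 := (h1 ⟨_, (h6.inQ he.2).mem_PS H⟩).1 h6
  rw [compat_eq hα] at h7
  obtain ⟨g', -, hg'⟩ := mem_PS.1 (conj_mem_of_permNorm ⟨α, hα⟩ ((PS B).inv_mem hs))
  have h8 := InT.conj H h7 (k := g') (v := v) (hg' ▸ (huv.mul hs'.inv).mul h5.inv)
  rw [hg'] at h8
  simpa [mul_assoc] using h8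

theorem orth_of_permNorm (h3 : 3 ≤ finrank F V) (hpq : p ∣ q) {π : Equiv.Perm (Pt B)}
    (hπ : π ∈ AutPerm.permNorm (PS B) (Pt B)) {u v u' v' : V} (huv : Sends π u v)
    (huv' : Sends π u' v') : B u u' = 0 ↔ B v v' = 0 := by
  have key : ∀ {π : Equiv.Perm (Pt B)} (_ : π ∈ AutPerm.permNorm (PS B) (Pt B)) {u v u' v' : V}
      (_ : Sends π u v) (_ : Sends π u' v'), B u u' = 0 → B v v' = 0 := by
    intro π hπ u v u' v' huv huv' h
    obtain ⟨t, ht, h1⟩ := exists_inT H huv.left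
    exact (InT.conj_of_permNorm H p h3 hpq hπ huv ht).orth_of_sends huv.right (by simpa using h1)
      ((huv'.mul (ht.sends huv'.left h)).mul huv'.inv)
  exact ⟨key hπ huv huv', key (Subgroup.inv_mem _ hπ) huv.inv huv'.inv⟩

/-- A `p`-element fixing the point of `e` and all isotropic lines through it is an Eichler
transformation. -/
theorem inQ_of_orth (h3 : 3 ≤ finrank F V) {e : V} {g : UG B} {k : ℕ}
    (hk : pm B g ^ p ^ k = 1) (he : Sends (pm B g) e e)
    (h : ∀ y y' z, Iso B z → Sends (pm B g) y y' → B e y = 0 → B e z = 0 → B y z = 0 →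
      B y' z = 0) : InQ e (pm B g) := by
  obtain ⟨g', h1, hge, hk'⟩ := exists_fix_of_pow H p (by omega) hk he
  rw [← h1] at h ⊢
  clear hk h1
  have he := he.left
  obtain ⟨f, -, hf, hef⟩ := H.exists_partner' H.nd_top trivial he.1 he.2
  have hfe := H.eq_one_symm hef
  set W := perp B (Submodule.span F {e, f}) with hW
  have hWnd : Nd B W := H.nd_perp (H.nd_span_pair he.2 (hef ▸ one_ne_zero))
  have hWr : finrank F W + 2 = finrank F V := by
    rw [← H.finrank_perp_add (Submodule.span F {e, f}),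
      IsHerm.finrank_span_pair he.2 (hef ▸ one_ne_zero)]
  have hge' : ∀ w, B e (g'.1 w) = B e w := fun w => by rw [← g'.2 e w, hge]
  let m : W →ₗ[F] W := LinearMap.codRestrict W
    ((LinearMap.id - (B f).smulRight e) ∘ₗ (g'.1 : V →ₗ[F] V) ∘ₗ W.subtype) fun w => by
      have := mem_perp_span_pair.1 w.2
      refine mem_perp_span_pair.2 ?_
      simp [hge', this.1, he.2, hfe]
  have hm : ∀ w : W, (m w : V) = g'.1 w - B f (g'.1 w) • e := fun _ => rfl
  obtain ⟨a, ha⟩ : ∃ a : F, ∀ w, m w = a • w := by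
    by_cases h2 : 2 ≤ finrank F W
    · refine (H.restrict hWnd).exists_eq_smul_of_isotropic h2 fun y hy => ?_
      by_cases hy0 : y = 0
      · simp [hy0]
      have hy' : Iso B (y : V) := ⟨by simpa using hy0, hy⟩
      have h4 := mem_perp_span_pair.1 y.2
      have h5 := sends_pm g' hy'
      have h6 := mem_of_forall_orth H (L := Submodule.span F {e, (y : V)}) h5.right.2
        (mem_perp_span_pair.2 ⟨by rw [hge', h4.1], H.eq_zero_symm (h _ _ _ hy' h5 h4.1 h4.1 hy)⟩)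
        fun z hz hz' => h _ _ _ hz h5 h4.1 (mem_perp_span_pair.1 hz').1 (mem_perp_span_pair.1 hz').2
      obtain ⟨a, b, hab⟩ := Submodule.mem_span_pair.1 h6
      refine Submodule.mem_span_singleton.2 ⟨b, Subtype.ext ?_⟩
      rw [hm, ← hab]
      simp [hfe, h4.2]
    · obtain ⟨v, hv0, hv⟩ := finrank_eq_one_iff'.1 (show finrank F W = 1 by omega)
      obtain ⟨a, ha⟩ := hv (m v)
      refine ⟨a, fun w => ?_⟩
      obtain ⟨b, rfl⟩ := hv w
      rw [map_smul, ← ha, smul_comm]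
  have h7 : ∀ w, B e w = 0 → ∃ b : F, g'.1 w = a • w + b • e := by
    intro w hw
    have h4 := congrArg Subtype.val (ha ⟨w - B f w • e,
      mem_perp_span_pair.2 (by simp [hw, he.2, hfe])⟩)
    rw [hm] at h4
    simp only [map_sub, map_smul, hge, Submodule.coe_smul] at h4
    exact ⟨B f (g'.1 w) - a * B f w, by
      rw [hfe] at h4
      linear_combination (norm := module) h4⟩
  have h8 : a = 1 := by
    have : Nontrivial W := finrank_pos_iff.1 (show 0 < finrank F W by omega)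
    obtain ⟨w, hw0⟩ := exists_ne (0 : W)
    have h4 := mem_perp_span_pair.1 w.2
    have h5 : ∀ n : ℕ, ∃ b : F, (g' ^ n).1 w = a ^ n • (w : V) + b • e := by
      intro n
      induction n with
      | zero => exact ⟨0, by simp⟩
      | succ n ih =>
        obtain ⟨b, hb⟩ := ih
        obtain ⟨b', hb'⟩ := h7 w h4.1
        refine ⟨a ^ n * b' + b, ?_⟩
        rw [pow_succ', Subgroup.coe_mul, LinearEquiv.mul_apply, hb, map_add, map_smul, map_smul,
          hge, hb']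
        module
    obtain ⟨b, hb⟩ := h5 (p ^ k)
    rw [hk'] at hb
    have h6 := congrArg (B f) hb
    simp only [OneMemClass.coe_one, LinearEquiv.coe_one, id_eq, map_add, map_smul, h4.2, hfe,
      smul_eq_mul, mul_zero, mul_one, zero_add] at h6 hb
    rw [← h6, zero_smul, add_zero] at hb
    exact eq_one_of_pow_char_pow p (smul_left_injective F (by simpa using hw0)
      (hb.symm.trans (one_smul _ _).symm))
  obtain ⟨w, c, hE⟩ := isEich_of_fix H he hge fun w hw => by simpa [h8] using h7 w hw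
  exact ⟨w, c, g', hE, rfl⟩

theorem InQ.conj_of_permNorm (h3 : 3 ≤ finrank F V) (hpq : p ∣ q) {π s : Equiv.Perm (Pt B)}
    (hπ : π ∈ AutPerm.permNorm (PS B) (Pt B)) {e : V} (he : Sends π e e) (hs : InQ e s) :
    InQ e (π * s * π⁻¹) := by
  obtain ⟨g, -, hg⟩ := AutU.mem_PS.1 (conj_mem_of_permNorm hπ (hs.mem_PS H))
  rw [← hg]
  refine inQ_of_orth H p h3 (k := 2) (by rw [hg, conj_pow, hs.pow_eq_one H p]; simp)
    (hg ▸ (he.mul (hs.sends H he.left)).mul he.inv) fun y y' z hz hy hey hez hyz => ?_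
  obtain ⟨y₁, h1⟩ := exists_sends π⁻¹ hy.left
  obtain ⟨z₁, h2⟩ := exists_sends π⁻¹ hz
  obtain ⟨y₂, h4⟩ := exists_sends π⁻¹ hy.right
  have hπ' := Subgroup.inv_mem _ hπ
  have h5 : Sends s y₁ y₂ := by
    simpa [hg, mul_assoc] using (h4.mul hy).mul h1.inv
  rw [orth_of_permNorm H p h3 hpq hπ' he.inv h1] at hey
  rw [orth_of_permNorm H p h3 hpq hπ' he.inv h2] at hez
  rw [orth_of_permNorm H p h3 hpq hπ' h1 h2] at hyz
  rw [orth_of_permNorm H p h3 hpq hπ' h4 h2]
  exact hs.orth h5 hey hez hyz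

end CL.AutU
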